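import Mathlib
import Cfsg.Prelude.Def_CaseTheorems
import Cfsg.Agent.Lib.Invol.RotHomocyclic
import Cfsg.Agent.Lib.Invol.SixtyFourThree
import Cfsg.Agent.Lib.Recog.MaxClassFacts
import Cfsg.Agent.Lib.Transfer.MaxClass

/-!
# 2-groups whose three involutions are central and permuted cyclically

Group-theoretical ingredients of the list of 2-groups of rank two carrying a fusion system with trivial
centre: the two types of 2-groups with a four-group of central involutions permuted cyclically, the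
impossibility of an automorphism inverting the one of order three in the nonabelian type, the recognition
of wreathed groups and of 2-groups with a self-centralizing four-group.
-/

set_option autoImplicit false

namespace Cfsg.Agent.Block.CentreFreeTwo

open Cfsg.Agent.Invol Cfsg.Agent.Invol.FpfThree

variable {T : Type*} [Group T] [Finite T]

/-- An automorphism moving a four-group, whose cube fixes it, has a power of 3-power order permuting
the involutions. -/
theorem rot_three {g : MulAut T} {D : Subgroup T} (hD : Nat.card D ≤ 4) (hmem : ∀ w ∈ D, g w ∈ D)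
    (hsq : ∀ w ∈ D, w * w = 1) {v : T} (hv : v ∈ D) (hvm : g v ≠ v)
    (h3 : ∀ w ∈ D, g (g (g w)) = w) :
    ∃ ψ ∈ Subgroup.zpowers g, ∃ k : ℕ, orderOf ψ = 3 ^ k ∧ NoSCN.Rot ψ D ∧ Nat.card D = 4 := by
  haveI : Fact (Nat.Prime 3) := ⟨Nat.prime_three⟩
  set n := orderOf g with hn
  set k := n.factorization 3
  set m := n / 3 ^ k with hm
  have hn0 : n ≠ 0 := (orderOf_pos g).ne'
  have hord : orderOf (g ^ m) = 3 ^ k := by
    rw [orderOf_pow_of_dvd
      (Nat.div_pos (Nat.le_of_dvd (orderOf_pos g) (Nat.ordProj_dvd _ 3)) (by positivity)).ne'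
      (Nat.ordCompl_dvd _ 3), ← hn, Nat.div_div_self (Nat.ordProj_dvd _ 3) hn0]
  have hm3 : ¬ 3 ∣ m := Nat.not_dvd_ordCompl Nat.prime_three hn0
  have hpw : ∀ q : ℕ, ∀ w ∈ D, (g ^ (3 * q)) w = w := by
    intro q
    induction q with
    | zero => intro w _; simp
    | succ q ih =>
      intro w hw
      rw [show 3 * (q + 1) = 3 * q + 3 by ring, pow_add, MulAut.mul_apply,
        show (g ^ 3) w = w from h3 w hw]
      exact ih w hw
  have hg2 : g (g v) ≠ v := fun e => hvm (by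
    have h := congrArg g e
    rw [h3 v hv] at h
    exact h.symm)
  have hmem' : ∀ q : ℕ, ∀ w ∈ D, (g ^ q) w ∈ D := by
    intro q
    induction q with
    | zero => intro w hw; simpa using hw
    | succ q ih => intro w hw; rw [pow_succ', MulAut.mul_apply]; exact hmem _ (ih w hw)
  have hmove : (g ^ m) v ≠ v := by
    have e : m = m % 3 + 3 * (m / 3) := (Nat.mod_add_div m 3).symm
    have h12 : m % 3 = 1 ∨ m % 3 = 2 := by omega
    rw [e, pow_add, MulAut.mul_apply, hpw _ v hv]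
    rcases h12 with h | h <;> rw [h]
    · simpa using hvm
    · exact hg2
  obtain ⟨hrot, h4⟩ := NoSCN.rot_of_moved (by rw [hord]; exact Odd.pow (by decide)) hD (hmem' m) hsq hv hmove
  exact ⟨g ^ m, Subgroup.npow_mem_zpowers g m, k, hord, hrot, h4⟩

/-- The two types of 2-groups with a four-group of all involutions moved by such an automorphism. -/
theorem types (hT : IsPGroup 2 T) {g : MulAut T} {D : Subgroup T} (hD : ∀ x, x ∈ D ↔ x * x = 1)
    (h4 : Nat.card D = 4) {v : T} (hv : v ∈ D) (hvm : g v ≠ v) (h3 : ∀ w ∈ D, g (g (g w)) = w) :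
    ((∀ a b : T, a * b = b * a) ∧
        ∃ n : ℕ, 1 ≤ n ∧ Nonempty (T ≃* Multiplicative (ZMod (2 ^ n) × ZMod (2 ^ n)))) ∨
      ∃ ψ ∈ Subgroup.zpowers g, SixtyFour.Unitary ψ ∧ D = Subgroup.center T := by
  have hmem : ∀ w ∈ D, g w ∈ D := fun w hw => (hD _).2 (by rw [← map_mul, (hD w).1 hw, map_one])
  obtain ⟨ψ, hψ, k, hk, hrot, -⟩ := rot_three h4.le hmem (fun w hw => (hD w).1 hw) hv hvm h3
  by_cases hab : ∀ a b : T, a * b = b * a
  · obtain ⟨n, hn, ⟨e⟩⟩ := RotHomocyclic.homocyclic hT hab hD hrot h4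
    exact Or.inl ⟨hab, n, hn, ⟨e.trans (MulEquiv.prodMultiplicative _ _).symm⟩⟩
  · have hU := SixtyFour.unitary_of_three hT (fun h => hab fun a b => h.is_comm.comm a b) hk hD hrot h4
    exact Or.inr ⟨ψ, hψ, hU, Subgroup.eq_of_le_of_card_ge (fun x hx => hU.inv x ((hD x).1 hx))
      (by rw [h4, hU.centre])⟩

/-- The `c`-values against a congruent element agree. -/
theorem c_congr {x x' y y' : T} (hc : ∀ a b : T, c a b ∈ Subgroup.center T)
    (hx : x⁻¹ * x' ∈ Subgroup.center T) (hy : y⁻¹ * y' ∈ Subgroup.center T) : c x' y' = c x y := by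
  calc c x' y' = c (x * (x⁻¹ * x')) (y * (y⁻¹ * y')) := by simp
    _ = c x y := by
      rw [c_mul_left hc, c_center_left hx, mul_one, c_mul_right hc, c_center_right hy, mul_one]

/-- Congruent elements have the same square. -/
theorem sq_congr {x x' : T} (hx : x⁻¹ * x' ∈ Subgroup.center T)
    (h2 : ∀ w ∈ Subgroup.center T, w * w = 1) : x' * x' = x * x := by
  have h := Subgroup.mem_center_iff.1 hx x
  calc x' * x' = x * ((x⁻¹ * x') * x) * (x⁻¹ * x') := by group
    _ = x * (x * (x⁻¹ * x')) * (x⁻¹ * x') := by rw [h]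
    _ = x * x * ((x⁻¹ * x') * (x⁻¹ * x')) := by group
    _ = x * x := by rw [h2 _ hx, mul_one]

/-- In the nonabelian type no involutory automorphism modulo the centre moving the centre inverts the
automorphism of order three. -/
theorem no_inverting {ψ : MulAut T} (hU : SixtyFour.Unitary ψ) (σ : MulAut T)
    (hσ2 : ∀ x, x⁻¹ * σ (σ x) ∈ Subgroup.center T)
    (hinv : ∀ x, (ψ (ψ (σ x)))⁻¹ * σ (ψ x) ∈ Subgroup.center T)
    {z : T} (hz : z ∈ Subgroup.center T) (hz1 : z ≠ 1) (hzf : σ z = z) : False := by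
  have hf := hU.fpf
  have hr := hU.rot
  have hc : ∀ a b : T, c a b ∈ Subgroup.center T := hf.comm_center hU.pgroup
  have h2 : ∀ w ∈ Subgroup.center T, w * w = 1 := hr.sq
  have hcomm : ∀ {u w : T}, u ∈ Subgroup.center T → w * u = u * w := fun hu => Subgroup.mem_center_iff.1 hu _
  have hsymm : ∀ a b : T, c b a = c a b := fun a b => by
    rw [← c_inv a b]; exact inv_eq_of_mul_eq_one_right (h2 _ (hc a b))
  have hinvc : ∀ u ∈ Subgroup.center T, ψ u ∈ Subgroup.center T := hr.mem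
  -- the squares are detected by the classes
  have hq : ∀ x, x ∉ Subgroup.center T → x * x ≠ 1 := fun x hx e => hx (hU.inv x e)
  have hsqmul : ∀ a b : T, a * b * (a * b) = c a b * (a * a) * (b * b) := by
    intro a b
    calc a * b * (a * b) = c a b * (b * (a * a) * b) := by simp only [c]; group
      _ = c a b * ((a * a) * b * b) := by rw [hcomm (hU.sq a) (w := b)]
      _ = _ := by group
  -- `σ` on the centre
  have hσψz : σ (ψ z) = ψ (ψ z) := by
    obtain ⟨e, he⟩ : ∃ e, σ (ψ z) = e := ⟨_, rfl⟩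
    have hm := hinv z
    rw [hzf] at hm
    have hpos : σ (ψ z) ∈ Subgroup.center T := by
      have := mul_mem (hinvc _ (hinvc z hz)) hm
      rwa [mul_inv_cancel_left] at this
    -- compare through a square root of `z`
    obtain ⟨r, hr'⟩ : ∃ r : T, r * r = z := by
      obtain ⟨x, hx⟩ : ∃ x, x ∉ Subgroup.center T := by
        by_contra hh
        push Not at hh
        have : (Subgroup.center T) = ⊤ := eq_top_iff.2 fun x _ => hh x
        have h4 := hU.centre
        rw [this, Subgroup.card_top, hU.order] at h4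
        omega
      rcases hr.all z hz hz1 (x * x) (hU.sq x) with e | e | e | e
      · exact absurd e (hq x hx)
      · exact ⟨x, e⟩
      · exact ⟨ψ (ψ x), by rw [← map_mul, ← map_mul, e, hr.three hz]⟩
      · exact ⟨ψ x, by rw [← map_mul, e, hr.three hz]⟩
    have h := sq_congr (hinv r) h2
    rwa [← map_mul σ, ← map_mul ψ r r, hr', ← map_mul ψ, ← map_mul ψ, ← map_mul σ r r, hr', hzf] at h
  have hσψψz : σ (ψ (ψ z)) = ψ z := by
    rw [hr.two z hz, map_mul, hzf, hσψz, hr.two z hz, ← mul_assoc, h2 z hz, one_mul]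
  have hfix : ∀ u ∈ Subgroup.center T, σ u = u → u = 1 ∨ u = z := by
    intro u hu he
    rcases hr.all z hz hz1 u hu with e | e | e | e
    · exact Or.inl e
    · exact Or.inr e
    · rw [e, hσψz] at he
      have h := hr.ne (ψ z) (hinvc z hz) he
      exact absurd (ψ.injective (h.trans (map_one ψ).symm)) hz1
    · rw [e, hσψψz] at he
      have h := hr.ne (ψ z) (hinvc z hz) he.symm
      exact absurd (ψ.injective (h.trans (map_one ψ).symm)) hz1
  -- two independent classes fixed by `σ`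
  haveI : (Subgroup.center T).Normal := inferInstance
  let π := QuotientGroup.mk' (Subgroup.center T)
  have hπ : ∀ a b : T, π a = π b ↔ a⁻¹ * b ∈ Subgroup.center T := fun a b => QuotientGroup.eq
  have hσc : Subgroup.center T ≤ (Subgroup.center T).comap σ.toMonoidHom := fun u hu => by
    rw [Subgroup.mem_comap]
    refine hU.inv _ ?_
    show σ u * σ u = 1
    rw [← map_mul, h2 u hu, map_one]
  let σ' : T ⧸ Subgroup.center T →* T ⧸ Subgroup.center T :=
    QuotientGroup.map _ _ σ.toMonoidHom hσc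
  have hσ' : ∀ a, σ' (π a) = π (σ a) := fun a => rfl
  have hQc : ∀ a b : T ⧸ Subgroup.center T, a * b = b * a := by
    intro a b
    obtain ⟨a, rfl⟩ := QuotientGroup.mk'_surjective _ a
    obtain ⟨b, rfl⟩ := QuotientGroup.mk'_surjective _ b
    show π a * π b = π b * π a
    rw [← map_mul, ← map_mul, hπ, show (a * b)⁻¹ * (b * a) = c b⁻¹ a⁻¹ by simp only [c]; group]
    exact hc _ _
  have hQ2 : ∀ a : T ⧸ Subgroup.center T, a * a = 1 := by
    intro a
    obtain ⟨a, rfl⟩ := QuotientGroup.mk'_surjective _ a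
    exact (QuotientGroup.eq_one_iff _).2 (hU.sq a)
  let δ : T ⧸ Subgroup.center T →* T ⧸ Subgroup.center T :=
    MonoidHom.mk' (fun a => a * σ' a) fun a b => by
      rw [map_mul, ← mul_assoc, mul_assoc a b, hQc b (σ' a), ← mul_assoc a, mul_assoc]
  have hδδ : δ.range ≤ δ.ker := by
    rintro _ ⟨a, rfl⟩
    obtain ⟨a, rfl⟩ := QuotientGroup.mk'_surjective _ a
    show π a * σ' (π a) * σ' (π a * σ' (π a)) = 1
    rw [hσ', map_mul σ', hσ', hσ', ← mul_assoc, mul_assoc (π a) (π (σ a)), hQ2, mul_one,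
      (hπ a (σ (σ a))).2 (hσ2 a), hQ2]
  have h16 : Nat.card (T ⧸ Subgroup.center T) = 16 := by
    have h := (Subgroup.center T).card_eq_card_quotient_mul_card_subgroup
    rw [hU.order, hU.centre] at h
    omega
  have hker : 4 ≤ Nat.card δ.ker := by
    have h := δ.ker.card_mul_index
    rw [Subgroup.index_ker, h16] at h
    have h' : Nat.card δ.range ≤ Nat.card δ.ker := Subgroup.card_le_of_le hδδ
    nlinarith
  obtain ⟨k1, hk1, hk11⟩ := (Subgroup.bot_or_exists_ne_one δ.ker).resolve_left fun e => by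
    rw [e, Subgroup.card_bot] at hker; omega
  obtain ⟨k2, hk2, hk21, hk12⟩ : ∃ k2 ∈ δ.ker, k2 ≠ 1 ∧ k2 ≠ k1 := by
    by_contra hh
    push Not at hh
    have h := Set.ncard_le_ncard (s := (δ.ker : Set (T ⧸ Subgroup.center T))) (t := {1, k1})
      (fun x hx => by
        by_cases hx1 : x = 1
        · exact Or.inl hx1
        · exact Or.inr (hh x hx hx1))
    have h' := Set.ncard_insert_le (1 : T ⧸ Subgroup.center T) {k1}
    rw [Set.ncard_singleton] at h'
    have h'' : (δ.ker : Set (T ⧸ Subgroup.center T)).ncard = Nat.card δ.ker := rfl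
    omega
  obtain ⟨c1, rfl⟩ := QuotientGroup.mk'_surjective _ k1
  obtain ⟨c2, rfl⟩ := QuotientGroup.mk'_surjective _ k2
  have hn1 : c1 ∉ Subgroup.center T := fun h => hk11 ((QuotientGroup.eq_one_iff _).2 h)
  have hn2 : c2 ∉ Subgroup.center T := fun h => hk21 ((QuotientGroup.eq_one_iff _).2 h)
  have hn12 : c1 * c2 ∉ Subgroup.center T := fun h => hk12 (by
    have e : π c1 * π c2 = 1 := by rw [← map_mul]; exact (QuotientGroup.eq_one_iff _).2 h
    calc π c2 = π c1 * π c1 * π c2 := by rw [hQ2, one_mul]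
      _ = π c1 := by rw [mul_assoc, e, mul_one])
  have hfx : ∀ d : T, π d ∈ δ.ker → d⁻¹ * σ d ∈ Subgroup.center T := by
    intro d hd
    rw [← hπ]
    have e : π d * σ' (π d) = 1 := hd
    rw [hσ'] at e
    calc π d = π d * (π d * π (σ d)) := by rw [e, mul_one]
      _ = π (σ d) := by rw [← mul_assoc, hQ2, one_mul]
  have hf1 := hfx c1 hk1
  have hf2 := hfx c2 hk2
  have hsqz : ∀ d : T, d ∉ Subgroup.center T → d⁻¹ * σ d ∈ Subgroup.center T → d * d = z := by
    intro d hd hdf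
    refine (hfix _ (hU.sq d) ?_).resolve_left (hq d hd)
    rw [map_mul]
    exact sq_congr hdf h2
  have hq1 := hsqz c1 hn1 hf1
  have hq2 := hsqz c2 hn2 hf2
  have hf12 : (c1 * c2)⁻¹ * σ (c1 * c2) ∈ Subgroup.center T := by
    rw [map_mul, ← hπ, map_mul, map_mul, (hπ _ _).2 hf1, (hπ _ _).2 hf2]
  have hB : c c1 c2 = z := by
    have h := hsqmul c1 c2
    rwa [hsqz _ hn12 hf12, hq1, hq2, mul_assoc, h2 z hz, mul_one, eq_comm] at h
  -- the classes `ψ c₁`, `ψ c₂` are sent to `ψ² c₁`, `ψ² c₂`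
  have hcψ : ∀ d : T, d⁻¹ * σ d ∈ Subgroup.center T →
      (ψ (ψ d))⁻¹ * σ (ψ d) ∈ Subgroup.center T := by
    intro d hd
    have h1 : (ψ (ψ d))⁻¹ * ψ (ψ (σ d)) ∈ Subgroup.center T := by
      rw [← map_inv, ← map_mul, ← map_inv, ← map_mul]
      exact hinvc _ (hinvc _ hd)
    rw [← hπ] at h1 ⊢
    exact h1.trans ((hπ _ _).2 (hinv d))
  have hcc : ∀ a t : T, c a t * c a t = 1 := fun a t => h2 _ (hc a t)
  obtain ⟨x, hxdef⟩ : ∃ x, x = c c1 (ψ c2) := ⟨_, rfl⟩
  have hσx : σ x = z * x := by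
    have hcr : c c1 (ψ (ψ c2)) = c c1 c2 * c c1 (ψ c2) := by
      rw [← hsymm c1 (ψ (ψ c2)), hf.two_congr hc c1 (hcc c2), hsymm c1 c2, hsymm c1 (ψ c2)]
    rw [hxdef, map_c, c_congr hc hf1 (hcψ c2 hf2), hcr, hB]
  have hxc : x ∈ Subgroup.center T := hxdef ▸ hc _ _
  rcases hr.all z hz hz1 x hxc with e | e | e | e
  · rw [e, map_one, mul_one] at hσx
    exact hz1 hσx.symm
  · rw [e, hzf, h2 z hz] at hσx
    exact hz1 hσx
  · -- the value `y`
    obtain ⟨y, hy⟩ : ∃ y, y = c (ψ c1) c2 := ⟨_, rfl⟩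
    have h1 : ψ (ψ z) = y * ψ z := by
      have hψx : ψ x = c (ψ c1) (ψ (ψ c2)) := by rw [hxdef, map_c]
      have hsplit : c (ψ c1) (ψ (ψ c2)) = c (ψ c1) c2 * c (ψ c1) (ψ c2) := by
        rw [← hsymm (ψ c1) (ψ (ψ c2)), hf.two_congr hc (ψ c1) (hcc c2), hsymm (ψ c1) c2,
          hsymm (ψ c1) (ψ c2)]
      rw [e, hsplit, ← map_c ψ c1 c2, hB, ← hy] at hψx
      exact hψx
    have hyz : y = z := by
      have h := hr.two z hz
      rw [h1] at h
      exact mul_right_cancel h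
    have hσy : σ y = c (ψ (ψ c1)) c2 := by rw [hy, map_c, c_congr hc (hcψ c1 hf1) hf2]
    rw [hf.two_congr hc c2 (hcc c1), hB, ← hy, hyz, h2 z hz, hzf] at hσy
    exact hz1 hσy
  · have h1 : c1 * ψ c2 * (c1 * ψ c2) = 1 := by
      rw [hsqmul, ← hxdef, e, hq1, ← map_mul, hq2, hr.two z hz,
        hcomm (hinvc z hz) (w := z), mul_assoc (ψ z) z z, h2 z hz, mul_one, h2 _ (hinvc z hz)]
    have h3 : c1 * ψ c2 ∈ Subgroup.center T := hU.inv _ h1
    have h5 : π c1 * π (ψ c2) = 1 := by rw [← map_mul]; exact (QuotientGroup.eq_one_iff _).2 h3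
    have h4 : π c1 * π (ψ (ψ c2)) = 1 := by
      have h := congrArg σ' h5
      rwa [map_mul, hσ', hσ', map_one, ← (hπ _ _).2 hf1, ← (hπ _ _).2 (hcψ c2 hf2)] at h
    have h6 : π (ψ c2) = π (ψ (ψ c2)) := mul_left_cancel (h5.trans h4.symm)
    have h7 : π c2 = π (ψ c2) := by
      rw [hπ] at h6 ⊢
      have h := hinvc _ (hinvc _ h6)
      rwa [map_mul, map_mul, map_inv, map_inv, hf.three] at h
    refine hn12 ((QuotientGroup.eq_one_iff _).1 ?_)
    show π (c1 * c2) = 1
    rw [map_mul, h7, h5]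

/-- A group with an abelian subgroup of index two, homocyclic of rank two and not elementary, on which an
outside element swaps two involutions, is wreathed. -/
theorem wreathed {P : Subgroup T} (hPc : ∀ a ∈ P, ∀ b ∈ P, a * b = b * a) {n : ℕ} (hn : 2 ≤ n)
    (e : P ≃* Multiplicative (ZMod (2 ^ n) × ZMod (2 ^ n))) (hidx : P.index = 2)
    {s : T} (hs : s ∉ P) {w : T} (hw : w ∈ P) (hw2 : w * w = 1) (hsw : s * w * s⁻¹ ≠ w) :
    Cfsg.IsWreathed T ∧
      ∀ Q : Subgroup T, Q.index = 2 → (∀ a ∈ Q, ∀ b ∈ Q, a * b = b * a) → Q = P := by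
  haveI := P.normal_of_index_eq_two hidx
  haveI : Fact (Nat.Prime 2) := ⟨Nat.prime_two⟩
  have hmem : ∀ a ∈ P, s * a * s⁻¹ ∈ P := fun a ha => Subgroup.Normal.conj_mem inferInstance a ha s
  have hs2 : s * s ∈ P := Subgroup.mul_self_mem_of_index_two hidx s
  have hexp : ∀ a ∈ P, a ^ 2 ^ n = 1 := by
    intro a ha
    have h : (e ⟨a, ha⟩) ^ 2 ^ n = 1 := Multiplicative.toAdd.injective (by
      have h0 : ((2 : ZMod (2 ^ n)) ^ n) = 0 := by exact_mod_cast ZMod.natCast_self (2 ^ n)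
      rw [toAdd_pow, toAdd_one]
      ext <;> simp [h0])
    rw [← map_pow, map_eq_one_iff e e.injective] at h
    exact congrArg Subtype.val h
  have hw1 : w ≠ 1 := fun h => hsw (by rw [h]; group)
  obtain ⟨n', rfl⟩ : ∃ n', n = n' + 1 := ⟨n - 1, by omega⟩
  -- a root of `w`
  obtain ⟨x, hx, hxw⟩ : ∃ x ∈ P, x ^ 2 ^ n' = w := by
    have hval : ∀ a : ZMod (2 ^ (n' + 1)), a + a = 0 → ∃ b : ZMod (2 ^ (n' + 1)), (2 ^ n') • b = a := by
      intro a ha
      obtain ⟨v, rfl⟩ := ZMod.natCast_zmod_surjective a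
      rw [← Nat.cast_add, ZMod.natCast_eq_zero_iff, pow_succ] at ha
      obtain ⟨d, hd⟩ := ha
      refine ⟨(d : ZMod _), ?_⟩
      rw [nsmul_eq_mul, ← Nat.cast_mul]
      congr 1
      rw [mul_comm (2 ^ n') 2, mul_assoc] at hd
      omega
    have h0 : Multiplicative.toAdd (e ⟨w, hw⟩) + Multiplicative.toAdd (e ⟨w, hw⟩) = 0 := by
      rw [← toAdd_mul, ← map_mul,
        show (⟨w, hw⟩ * ⟨w, hw⟩ : P) = 1 from Subtype.ext hw2, map_one, toAdd_one]
    obtain ⟨b1, hb1⟩ := hval _ (congrArg Prod.fst h0)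
    obtain ⟨b2, hb2⟩ := hval _ (congrArg Prod.snd h0)
    refine ⟨(e.symm (Multiplicative.ofAdd (b1, b2)) : P), SetLike.coe_mem _, ?_⟩
    rw [← SubgroupClass.coe_pow, ← map_pow]
    exact congrArg Subtype.val (e.injective (show _ = e ⟨w, hw⟩ by
      rw [MulEquiv.apply_symm_apply]
      exact Multiplicative.toAdd.injective (Prod.ext hb1 hb2)))
  have hxo : orderOf x = 2 ^ (n' + 1) := orderOf_eq_prime_pow (hxw ▸ hw1) (hexp x hx)
  obtain ⟨y, hy⟩ : ∃ y, y = s * x * s⁻¹ := ⟨_, rfl⟩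
  have hyP : y ∈ P := hy ▸ hmem x hx
  have hyo : orderOf y = 2 ^ (n' + 1) := by
    rw [hy, ← hxo]; exact orderOf_injective (MulAut.conj s).toMonoidHom (MulAut.conj s).injective x
  have hyw : y ^ 2 ^ n' = s * w * s⁻¹ := by rw [hy, conj_pow, hxw]
  have hsy : s * y * s⁻¹ = x := by
    rw [hy, show s * (s * x * s⁻¹) * s⁻¹ = s * s * x * (s * s)⁻¹ by group, hPc _ hs2 x hx,
      mul_inv_cancel_right]
  -- independence
  have hinf : Subgroup.zpowers x ⊓ Subgroup.zpowers y = ⊥ := by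
    rw [eq_bot_iff]
    intro u hu
    by_contra hu1
    rw [Subgroup.mem_bot] at hu1
    have key : ∀ a : T, orderOf a = 2 ^ (n' + 1) → ∀ v ∈ Subgroup.zpowers a, v ≠ 1 → v * v = 1 →
        v = a ^ 2 ^ n' := by
      intro a ha v hv hv1 hv2
      obtain ⟨k, rfl⟩ := Subgroup.mem_zpowers_iff.1 hv
      rw [← zpow_add, ← orderOf_dvd_iff_zpow_eq_one, ha] at hv2
      have hk : (2 : ℤ) ^ n' ∣ k := by
        rw [show k + k = 2 * k by ring, Nat.cast_pow, Nat.cast_ofNat, pow_succ'] at hv2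
        exact (mul_dvd_mul_iff_left two_ne_zero).1 hv2
      obtain ⟨q, rfl⟩ := hk
      rcases Int.even_or_odd' q with ⟨r, rfl | rfl⟩
      · refine absurd ?_ hv1
        rw [← orderOf_dvd_iff_zpow_eq_one, ha]
        exact ⟨r, by push_cast; ring⟩
      · rw [← zpow_natCast, eq_comm, eq_comm, zpow_eq_zpow_iff_modEq, ha, Int.modEq_iff_dvd]
        exact ⟨-r, by push_cast; ring⟩
    obtain ⟨j, hj⟩ : ∃ j : ℕ, u ^ 2 ^ j ≠ 1 ∧ (u ^ 2 ^ j) ^ 2 = 1 := by
      have hu' : u ^ 2 ^ (n' + 1) = 1 := hexp u (Subgroup.zpowers_le.2 hx hu.1)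
      obtain ⟨k, -, hk⟩ := (Nat.dvd_prime_pow Nat.prime_two).1 (orderOf_dvd_of_pow_eq_one hu')
      rcases k with _ | k
      · exact absurd (orderOf_eq_one_iff.1 hk) hu1
      · refine ⟨k, fun h => ?_, by rw [← pow_mul, ← pow_succ, ← hk, pow_orderOf_eq_one]⟩
        have := orderOf_dvd_of_pow_eq_one h
        rw [hk] at this
        have := Nat.le_of_dvd (Nat.two_pow_pos k) this
        rw [pow_succ] at this
        omega
    have hmx := (Subgroup.zpowers x).pow_mem hu.1 (2 ^ j)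
    have hmy := (Subgroup.zpowers y).pow_mem hu.2 (2 ^ j)
    have e1 := key x hxo _ hmx hj.1 (by rw [← pow_two]; exact hj.2)
    have e2 := key y hyo _ hmy hj.1 (by rw [← pow_two]; exact hj.2)
    rw [e1, hxw, hyw] at e2
    exact hsw e2.symm
  have hcard : Nat.card P = 2 ^ (2 * (n' + 1)) := by
    rw [Nat.card_congr e.toEquiv, Nat.card_congr Multiplicative.toAdd, Nat.card_prod, Nat.card_zmod,
      ← pow_add, two_mul]
  -- spanning
  have hspan : ∀ a ∈ P, ∃ i j : ℤ, a = x ^ i * y ^ j := by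
    intro a ha
    let f : Subgroup.zpowers x × Subgroup.zpowers y → P := fun p =>
      ⟨p.1 * p.2, mul_mem (Subgroup.zpowers_le.2 hx p.1.2) (Subgroup.zpowers_le.2 hyP p.2.2)⟩
    have hinj : Function.Injective f := by
      intro p q hpq
      have h : (p.1 : T) * p.2 = q.1 * q.2 := congrArg Subtype.val hpq
      have h' : (q.1 : T)⁻¹ * p.1 = q.2 * (p.2 : T)⁻¹ :=
        calc (q.1 : T)⁻¹ * p.1 = (q.1 : T)⁻¹ * (p.1 * p.2) * (p.2 : T)⁻¹ := by group
          _ = _ := by rw [h]; group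
      have h'' : (q.1 : T)⁻¹ * p.1 = 1 := by
        rw [← Subgroup.mem_bot, ← hinf]
        exact ⟨(Subgroup.zpowers x).mul_mem ((Subgroup.zpowers x).inv_mem q.1.2) p.1.2,
          h' ▸ (Subgroup.zpowers y).mul_mem q.2.2 ((Subgroup.zpowers y).inv_mem p.2.2)⟩
      refine Prod.ext (Subtype.ext (inv_mul_eq_one.1 h'').symm) (Subtype.ext ?_)
      exact (mul_inv_eq_one.1 (h'.symm.trans h'')).symm
    have hb := (Nat.bijective_iff_injective_and_card f).2 ⟨hinj, by
      rw [Nat.card_prod, Nat.card_zpowers, Nat.card_zpowers, hxo, hyo, hcard, ← pow_add, two_mul]⟩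
    obtain ⟨⟨⟨_, i, rfl⟩, ⟨_, j, rfl⟩⟩, hf⟩ := hb.2 ⟨a, ha⟩
    exact ⟨i, j, (congrArg Subtype.val hf).symm⟩
  refine ⟨?_, fun Q hQ hQc => ?_⟩
  · -- an involution outside
    obtain ⟨i, j, hij⟩ := hspan _ hs2
    have hfix : y ^ i * x ^ j = x ^ i * y ^ j := by
      rw [← hij]
      have h : s * (x ^ i * y ^ j) * s⁻¹ = y ^ i * x ^ j := by
        rw [show s * (x ^ i * y ^ j) * s⁻¹ = s * x ^ i * s⁻¹ * (s * y ^ j * s⁻¹) by group,
          ← conj_zpow, ← conj_zpow, ← hy, hsy]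
      rw [← h, ← hij]; group
    have hij' : y ^ (i - j) = x ^ (i - j) := by
      rw [zpow_sub, zpow_sub]
      calc y ^ i * (y ^ j)⁻¹ = y ^ i * x ^ j * (x ^ j)⁻¹ * (y ^ j)⁻¹ := by group
        _ = x ^ i * (y ^ j * (x ^ j)⁻¹) * (y ^ j)⁻¹ := by rw [hfix]; group
        _ = x ^ i * (x ^ j)⁻¹ := by
          rw [hPc _ (zpow_mem hyP j) _ (inv_mem (zpow_mem hx j))]; group
    have hd : x ^ (i - j) = 1 := by
      rw [← Subgroup.mem_bot, ← hinf]
      exact ⟨⟨i - j, rfl⟩, hij' ▸ ⟨i - j, rfl⟩⟩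
    rw [zpow_sub, mul_inv_eq_one] at hd
    obtain ⟨z, hz⟩ : ∃ z, z = s * x ^ (-i) := ⟨_, rfl⟩
    have hsi : s * x ^ (-i) * s⁻¹ = y ^ (-i) := by rw [← conj_zpow, ← hy]
    have hji : y ^ j = y ^ i := by
      have h : s * x ^ j * s⁻¹ = s * x ^ i * s⁻¹ := by rw [hd]
      rwa [← conj_zpow, ← conj_zpow, ← hy] at h
    have hz2 : z * z = 1 := by
      calc z * z = s * x ^ (-i) * s⁻¹ * (s * s) * x ^ (-i) := by rw [hz]; group
        _ = 1 := by
          rw [hsi, hij, hji, hPc _ (zpow_mem hx i) _ (zpow_mem hyP i)]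
          group
    have hzP : z ∉ P := fun h => hs (by
      have := mul_mem h (inv_mem (zpow_mem hx (-i)))
      rwa [hz, mul_inv_cancel_right] at this)
    refine ⟨n' + 1, hn, ?_, x, y, z, hxo, hPc _ hx _ hyP, hinf,
      orderOf_eq_prime (by rw [pow_two, hz2]) (fun h => hzP (h ▸ one_mem P)), ?_⟩
    · rw [← P.card_mul_index, hcard, hidx, ← pow_succ]
    · rw [hz, hy, show s * x ^ (-i) * x * (s * x ^ (-i))⁻¹ =
        s * (x ^ (-i) * x * (x ^ (-i))⁻¹) * s⁻¹ by group, hPc _ (zpow_mem hx _) _ hx,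
        mul_inv_cancel_right]
  · by_contra hne
    obtain ⟨u, huQ, huP⟩ : ∃ u ∈ Q, u ∉ P := by
      by_contra h
      push Not at h
      refine hne (Subgroup.eq_of_le_of_card_ge h (le_of_eq ?_))
      have h1 := Q.card_mul_index
      have h2 := P.card_mul_index
      rw [hQ] at h1
      rw [hidx] at h2
      omega
    haveI := Q.normal_of_index_eq_two hQ
    have hx2 : x * x ∈ Q := Subgroup.mul_self_mem_of_index_two hQ x
    obtain ⟨p, hp, rfl⟩ : ∃ p ∈ P, s * p = u := by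
      refine ⟨s⁻¹ * u, ?_, by group⟩
      rw [Subgroup.mul_mem_iff_of_index_two hidx, inv_mem_iff]
      exact iff_of_false hs huP
    have h := hQc _ huQ _ hx2
    have h' : s * (x * x) * s⁻¹ = x * x := by
      rw [mul_inv_eq_iff_eq_mul]
      calc s * (x * x) = s * (p * (x * x)) * p⁻¹ := by rw [hPc p hp _ (mul_mem hx hx)]; group
        _ = x * x * s := by rw [← mul_assoc s p, h]; group
    rw [show s * (x * x) * s⁻¹ = y * y by rw [hy]; group] at h'
    have h2 : x * x = 1 := by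
      rw [← Subgroup.mem_bot, ← hinf]
      exact ⟨mul_mem (Subgroup.mem_zpowers x) (Subgroup.mem_zpowers x),
        h' ▸ mul_mem (Subgroup.mem_zpowers y) (Subgroup.mem_zpowers y)⟩
    have h3 := orderOf_dvd_of_pow_eq_one (show x ^ 2 = 1 by rw [pow_two, h2])
    rw [hxo] at h3
    have h4 := Nat.le_of_dvd two_pos h3
    have h5 : 2 ^ 2 ≤ 2 ^ (n' + 1) := Nat.pow_le_pow_right two_pos hn
    omega

/-- A 2-group with a self-centralizing four-group is dihedral or quasi-dihedral, or is that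
four-group. -/
theorem of_selfCentralizing (hT : IsPGroup 2 T) (A : Subgroup T) (hA : Nat.card A = 4)
    (hA2 : ∀ a ∈ A, a * a = 1) (hC : Subgroup.centralizer (A : Set T) = A) (hne : A ≠ ⊤) :
    (∃ m : ℕ, 2 ≤ m ∧ Nonempty (T ≃* DihedralGroup m)) ∨ Cfsg.IsQuasiDihedral T := by
  haveI : Fact (Nat.Prime 2) := ⟨Nat.prime_two⟩
  obtain ⟨n, hn⟩ := IsPGroup.iff_card.1 hT
  have h8 : 3 ≤ n := by
    by_contra h
    have h1 : 2 ^ n ≤ 2 ^ 2 := Nat.pow_le_pow_right two_pos (by omega)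
    exact hne (Subgroup.eq_top_of_card_eq A (le_antisymm (Subgroup.card_le_card_group A) (by omega)))
  have hcl := Cfsg.Agent.Transfer.MaxClass.class_of_selfCentralizing n hn A (by rw [hA]; norm_num) hC
  have hi := Cfsg.Agent.MaxClass.index_of_class h8 hn hcl.ge
  obtain ⟨a, b, h, hs⟩ := Cfsg.Agent.MaxClass.exists_shape h8 hn hi
  rcases hs with ⟨hb, hc⟩ | ⟨hb, hc⟩ | ⟨hm, hb, hc⟩
  · refine Or.inl ⟨2 ^ (n - 1), ?_, h.dihedral hb hc⟩
    calc 2 = 2 ^ 1 := rfl
      _ ≤ 2 ^ (n - 1) := Nat.pow_le_pow_right two_pos (by omega)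
  · -- the quaternion shape has a single involution
    exfalso
    have hsub : A ≤ Subgroup.zpowers a := by
      intro g hg
      rcases h.cases g with ⟨i, rfl⟩ | ⟨i, rfl⟩
      · exact zpow_mem (Subgroup.mem_zpowers a) i
      · exfalso
        have hsq := hA2 _ hg
        rw [Cfsg.Agent.MaxClass.Cyc2.outside_sq (r := -1) (s := ((2 ^ (n - 1 - 1) : ℕ) : ℤ))
          (by rw [hc, zpow_neg_one]) (by rw [hb, zpow_natCast]) i] at hsq
        rw [show (-1 : ℤ) * i + ((2 ^ (n - 1 - 1) : ℕ) : ℤ) + i = ((2 ^ (n - 1 - 1) : ℕ) : ℤ) by ring,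
          zpow_natCast] at hsq
        have h1 := orderOf_dvd_of_pow_eq_one hsq
        rw [h.ord] at h1
        have h2 := (Nat.pow_dvd_pow_iff_le_right (by norm_num : 1 < 2)).1 h1
        omega
    haveI : IsCyclic A := isCyclic_of_injective (Subgroup.inclusion hsub) (Subgroup.inclusion_injective hsub)
    obtain ⟨g, hg⟩ := IsCyclic.exists_generator (α := A)
    have h1 : orderOf g = 4 := by rw [← hA, orderOf_eq_card_of_forall_mem_zpowers hg]
    have h2 : g ^ 2 = 1 := Subtype.ext (by rw [SubgroupClass.coe_pow, pow_two]; exact hA2 _ g.2)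
    have h3 := orderOf_dvd_of_pow_eq_one h2
    rw [h1] at h3
    omega
  · exact Or.inr (h.isQuasiDihedral hm hb hc)

end Cfsg.Agent.Block.CentreFreeTwo
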