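import Mathlib
import Cfsg.Agent.Lib.Block.CentreFreeTwo.Basic
import Cfsg.Agent.Lib.Fus.Alperin
import Cfsg.Agent.Lib.Fus.EssentialRankTwo
import Cfsg.Agent.Lib.Fus.FunctorCenter
import Cfsg.Agent.Lib.Fus.TwoCenter
import Cfsg.Agent.Lib.Fus.InvariantIff

/-!
# Saturated fusion systems with trivial centre over 2-groups of rank two

Moved central involutions, and the local analysis at an essential subgroup moving one.
-/

set_option autoImplicit false

namespace Cfsg.Agent.Block.CentreFreeTwo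

open Cfsg.Agent.Fus Cfsg.Agent.Invol
open Cfsg.FusionSystem (normalizerIn centralizerIn)

universe u

variable {Ω : Type u} [Group Ω] {S : Subgroup Ω} {F : FusionSystem S}

theorem mem_omega {U : Subgroup Ω} {x : Ω} :
    x ∈ omegaCentre U ↔ x ∈ U ∧ (∀ u ∈ U, u * x = x * u) ∧ x * x = 1 := by
  refine ⟨fun h => ⟨omegaCentre_le h, fun u hu => (mem_centralizerIn.1 h.1).2 u hu, ?_⟩,
    fun h => ⟨mem_centralizerIn.2 ⟨h.1, h.2.1⟩, ?_⟩⟩
  · rw [← pow_two]; exact h.2
  · rw [pow_two]; exact h.2.2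

theorem omega_le_of_centric {P : Subgroup Ω} (hP : F.IsCentric P) :
    omegaCentre S ≤ omegaCentre P := by
  intro x hx
  obtain ⟨h1, h2, h3⟩ := mem_omega.1 hx
  have hPS := hP.1
  exact mem_omega.2 ⟨centralizerIn_le_of_centric hP (mem_centralizerIn.2 ⟨h1, fun y hy => h2 y (hPS hy)⟩),
    fun u hu => h2 u (hPS hu), h3⟩

theorem autFun_omega {P : Subgroup Ω} (α : MulAut P) {x : Ω} (hx : x ∈ omegaCentre P) :
    autFun α x ∈ omegaCentre P := by
  obtain ⟨h1, h2, h3⟩ := mem_omega.1 hx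
  lift x to P using h1
  rw [autFun_coe]
  refine mem_omega.2 ⟨SetLike.coe_mem _, fun u hu => ?_, ?_⟩
  · obtain ⟨v, hv⟩ := α.surjective ⟨u, hu⟩
    have h : α (v * x) = α (x * v) := congrArg α (Subtype.ext (h2 v v.2))
    rw [map_mul, map_mul, hv] at h
    exact congrArg Subtype.val h
  · have h : α x * α x = 1 := by rw [← map_mul, show x * x = 1 from Subtype.ext h3, map_one]
    exact congrArg Subtype.val h

/-- The elements of order at most two of the centre of `U`, inside `U`. -/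
def omegaIn (U : Subgroup Ω) : Subgroup U := (omegaCentre U).subgroupOf U

theorem card_omegaIn (U : Subgroup Ω) : Nat.card (omegaIn U) = Nat.card (omegaCentre U) :=
  Nat.card_congr (Subgroup.subgroupOfEquivOfLe omegaCentre_le).toEquiv

/-- The automorphisms in the system fixing the central involutions pointwise. -/
def fixer (F : FusionSystem S) (P : Subgroup Ω) : Subgroup (F.autGroup P) where
  carrier := {g | ∀ v ∈ omegaCentre P, autFun (g : MulAut P) v = v}
  one_mem' := fun v hv => by rw [OneMemClass.coe_one, autFun_one (omegaCentre_le hv)]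
  mul_mem' := fun {a b} ha hb v hv => by
    rw [Subgroup.coe_mul, autFun_mul _ _ (omegaCentre_le hv), hb v hv, ha v hv]
  inv_mem' := fun {a} ha v hv => by
    rw [Subgroup.coe_inv]
    calc autFun (a : MulAut P)⁻¹ v = autFun (a : MulAut P)⁻¹ (autFun (a : MulAut P) v) := by rw [ha v hv]
      _ = v := autFun_inv_apply _ (omegaCentre_le hv)

instance fixer_normal (F : FusionSystem S) (P : Subgroup Ω) : (fixer F P).Normal := by
  refine ⟨fun c hc b v hv => ?_⟩
  rw [Subgroup.coe_mul, Subgroup.coe_mul, autFun_mul _ _ (omegaCentre_le hv),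
    autFun_mul _ _ (autFun_mem _ (omegaCentre_le hv)), hc _ (autFun_omega _ hv),
    ← autFun_mul _ _ (omegaCentre_le hv), Subgroup.coe_inv, mul_inv_cancel,
    autFun_one (omegaCentre_le hv)]

/-- The automorphism of `P` induced by an element normalizing it. -/
def conjAut {P : Subgroup Ω} {s : Ω} (hs : s ∈ normalizerIn S P) : MulAut P :=
  P.normalizerMonoidHom ⟨s, (mem_normalizerIn.1 hs).2⟩

theorem conjAut_apply {P : Subgroup Ω} {s : Ω} (hs : s ∈ normalizerIn S P) (x : P) :
    ((conjAut hs x : P) : Ω) = s * x * s⁻¹ := rfl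

theorem conjAut_mem_induced {P : Subgroup Ω} {s : Ω} (hs : s ∈ normalizerIn S P) :
    conjAut hs ∈ autInducedBy S P :=
  mem_autInducedBy.2 ⟨s, hs.1, fun x => conjAut_apply hs x⟩

theorem conjAut_mem {P : Subgroup Ω} (hP : P ≤ S) {s : Ω} (hs : s ∈ normalizerIn S P) :
    conjAut hs ∈ F.autGroup P :=
  autInducedBy_le_autGroup F hP (conjAut_mem_induced hs)

theorem autFun_conjAut {P : Subgroup Ω} {s : Ω} (hs : s ∈ normalizerIn S P) {x : Ω} (hx : x ∈ P) :
    autFun (conjAut hs) x = s * x * s⁻¹ := by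
  rw [show x = ((⟨x, hx⟩ : P) : Ω) from rfl, autFun_coe]; exact conjAut_apply hs _

variable [Finite S]

theorem card_omega_le (hS : IsPGroup 2 S) (hr : ¬ Cfsg.PRankAtLeast 2 3 ↥S) {U : Subgroup Ω}
    (hU : U ≤ S) : Nat.card (omegaCentre U) ≤ 4 := by
  haveI : Fact (Nat.Prime 2) := ⟨Nat.prime_two⟩
  have hle : omegaCentre U ≤ S := omegaCentre_le.trans hU
  have hcard : Nat.card ((omegaCentre U).subgroupOf S) = Nat.card (omegaCentre U) :=
    Nat.card_congr (Subgroup.subgroupOfEquivOfLe hle).toEquiv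
  obtain ⟨j, hj⟩ := IsPGroup.iff_card.1 (hS.to_subgroup ((omegaCentre U).subgroupOf S))
  rw [← hcard, hj]
  by_contra hgt
  refine hr ⟨(omegaCentre U).subgroupOf S, ⟨⟨fun a b => ?_⟩⟩, fun a ha => ?_, ?_⟩
  · exact Subtype.ext (Subtype.ext ((mem_omega.1 b.2).2.1 _ (omegaCentre_le a.2)))
  · exact Subtype.ext (by rw [SubgroupClass.coe_pow, pow_two]; exact (mem_omega.1 ha).2.2)
  · rw [hj]
    refine Nat.pow_le_pow_right two_pos ?_
    by_contra hlt
    have := Nat.pow_le_pow_right two_pos (show j ≤ 2 by omega)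
    omega

/-- When the centre of `U` has a four-group, it contains all involutions of `U`. -/
theorem mem_omega_of_sq (hS : IsPGroup 2 S) (hr : ¬ Cfsg.PRankAtLeast 2 3 ↥S) {U : Subgroup Ω}
    (hU : U ≤ S) (h4 : Nat.card (omegaCentre U) = 4) {x : Ω} (hx : x ∈ U) (h2 : x * x = 1) :
    x ∈ omegaCentre U := by
  by_contra hxW
  haveI : Fact (Nat.Prime 2) := ⟨Nat.prime_two⟩
  have hxi : x⁻¹ = x := inv_eq_of_mul_eq_one_right h2
  let A : Subgroup Ω :=
    { carrier := {y | y ∈ omegaCentre U ∨ y * x ∈ omegaCentre U}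
      one_mem' := Or.inl (one_mem _)
      mul_mem' := by
        rintro a b (ha | ha) (hb | hb)
        · exact Or.inl (mul_mem ha hb)
        · exact Or.inr (by rw [mul_assoc]; exact mul_mem ha hb)
        · refine Or.inr ?_
          rw [show a * b * x = a * (b * x) by group, ← (mem_omega.1 hb).2.1 x hx, ← mul_assoc]
          exact mul_mem ha hb
        · refine Or.inl ?_
          rw [show a * b = a * x * (x⁻¹ * (b * x) * x⁻¹) by group, hxi,
            (mem_omega.1 hb).2.1 x hx, mul_assoc (b * x) x x, h2, mul_one]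
          exact mul_mem ha hb
      inv_mem' := by
        rintro a (ha | ha)
        · exact Or.inl (inv_mem ha)
        · refine Or.inr ?_
          have h := inv_mem ha
          rw [mul_inv_rev] at h
          rw [show a⁻¹ * x = x * (x⁻¹ * a⁻¹) * x by group, (mem_omega.1 h).2.1 x hx,
            mul_assoc _ x x, h2, mul_one]
          exact h }
  have hAU : A ≤ U := by
    rintro y (hy | hy)
    · exact omegaCentre_le hy
    · rw [show y = y * x * x⁻¹ by group]; exact mul_mem (omegaCentre_le hy) (inv_mem hx)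
  have hform : ∀ y ∈ A, ∃ w ∈ omegaCentre U, y = w ∨ y = w * x := by
    rintro y (hy | hy)
    · exact ⟨y, hy, Or.inl rfl⟩
    · exact ⟨y * x, hy, Or.inr (by rw [mul_assoc, h2, mul_one])⟩
  have hcm : ∀ y ∈ A, y * x = x * y := by
    intro y hy
    obtain ⟨w, hw, rfl | rfl⟩ := hform y hy
    · exact ((mem_omega.1 hw).2.1 x hx).symm
    · rw [← mul_assoc x, (mem_omega.1 hw).2.1 x hx]
  have hA : A = omegaCentre A := by
    refine le_antisymm (fun y hy => mem_omega.2 ⟨hy, fun v hv => ?_, ?_⟩) omegaCentre_le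
    · obtain ⟨w, hw, rfl | rfl⟩ := hform y hy
      · exact (mem_omega.1 hw).2.1 v (hAU hv)
      · rw [← mul_assoc, (mem_omega.1 hw).2.1 v (hAU hv), mul_assoc, hcm v hv, ← mul_assoc]
    · obtain ⟨w, hw, rfl | rfl⟩ := hform y hy
      · exact (mem_omega.1 hw).2.2
      · rw [show w * x * (w * x) = w * (x * w) * x by group, (mem_omega.1 hw).2.1 x hx,
          show w * (w * x) * x = w * w * (x * x) by group, h2, (mem_omega.1 hw).2.2, mul_one]
  have hlt : omegaCentre U < A :=
    lt_of_le_of_ne (fun y hy => Or.inl hy) fun e =>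
      hxW (e.ge (show x ∈ A from Or.inr (by rw [h2]; exact one_mem _)))
  haveI : Finite A := finite_of_le (hAU.trans hU)
  have h1 := card_lt_of_lt hlt
  have h2' := card_omega_le hS hr (hAU.trans hU)
  rw [← hA] at h2'
  omega

theorem mem_omegaIn_iff (hS : IsPGroup 2 S) (hr : ¬ Cfsg.PRankAtLeast 2 3 ↥S) {U : Subgroup Ω}
    (hU : U ≤ S) (h4 : Nat.card (omegaCentre U) = 4) (x : U) : x ∈ omegaIn U ↔ x * x = 1 :=
  ⟨fun h => Subtype.ext (mem_omega.1 h).2.2,
    fun h => mem_omega_of_sq hS hr hU h4 x.2 (congrArg Subtype.val h)⟩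

/-- A moved central involution makes four of them. -/
theorem card_omega_eq (hS : IsPGroup 2 S) (hr : ¬ Cfsg.PRankAtLeast 2 3 ↥S) {P : Subgroup Ω}
    (hP : P ≤ S) {α : MulAut P} {z : Ω} (hz : z ∈ omegaCentre P) (hm : autFun α z ≠ z) :
    Nat.card (omegaCentre P) = 4 := by
  haveI : Fact (Nat.Prime 2) := ⟨Nat.prime_two⟩
  haveI : Finite (omegaCentre P) := finite_of_le (omegaCentre_le.trans hP)
  have hle := card_omega_le hS hr hP
  obtain ⟨j, hj⟩ := IsPGroup.iff_card.1 (hS.to_le (omegaCentre_le.trans hP))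
  have hone : autFun α 1 = 1 := by
    rw [show (1 : Ω) = ((1 : P) : Ω) from rfl, autFun_coe, map_one]
  have hz1 : z ≠ 1 := fun e => hm (by rw [e, hone])
  have hαz1 : autFun α z ≠ 1 := fun e => hz1 (by
    have h := autFun_inv_apply α (omegaCentre_le hz)
    rw [e] at h
    rw [← h, show (1 : Ω) = ((1 : P) : Ω) from rfl, autFun_coe, map_one])
  have h3 : 2 < Nat.card (omegaCentre P) := by
    let f : Fin 3 → omegaCentre P := ![1, ⟨z, hz⟩, ⟨_, autFun_omega α hz⟩]
    have hf : Function.Injective f := by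
      intro a b hab
      have h : ((f a : omegaCentre P) : Ω) = f b := congrArg Subtype.val hab
      fin_cases a <;> fin_cases b <;> first
        | rfl
        | exact absurd h hz1
        | exact absurd h.symm hz1
        | exact absurd h hαz1
        | exact absurd h.symm hαz1
        | exact absurd h hm
        | exact absurd h.symm hm
    have := Nat.card_le_card_of_injective f hf
    rw [Nat.card_fin] at this
    omega
  rcases j with _ | _ | _ | j
  · omega
  · omega
  · exact hj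
  · have := Nat.pow_le_pow_right two_pos (show 3 ≤ j + 3 by omega)
    omega

/-- With trivial centre a central involution is moved at `S` or at an essential subgroup. -/
theorem exists_moved (hS : IsPGroup 2 S) (hF : F.IsSaturated 2) (hZ : F.center = ⊥) {z : Ω}
    (hz : z ∈ omegaCentre S) (hz1 : z ≠ 1) :
    ∃ P, (P = S ∨ F.IsEssential 2 P) ∧ ∃ α ∈ F.autGroup P, autFun α z ≠ z := by
  haveI : Fact (Nat.Prime 2) := ⟨Nat.prime_two⟩
  by_contra hno
  push Not at hno
  obtain ⟨hzS, hzc, hz2⟩ := mem_omega.1 hz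
  have hm := isMapProp_fixesElt (F := F) z
  have hall : ∀ P f, IsMap F P f → FixesElt z P f := fun P f hf =>
    alperin hS hF (FixesElt z) hm.congr hm.comp hm.res (fun α hα _ => hno S (Or.inl rfl) α hα)
      (fun Q hQ α hα _ => hno Q (Or.inr hQ) α hα) hf
  have hmem : ∀ x ∈ Subgroup.zpowers z, x = 1 ∨ x = z := by
    intro x hx
    obtain ⟨k, rfl⟩ := Subgroup.mem_zpowers_iff.1 hx
    rcases Int.even_or_odd' k with ⟨r, rfl | rfl⟩
    · left; rw [zpow_mul, zpow_two, hz2, one_zpow]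
    · right; rw [zpow_add, zpow_mul, zpow_two, hz2, one_zpow, one_mul, zpow_one]
  have hcen : F.IsCentral (Subgroup.zpowers z) := by
    refine isCentral_of_fixesElt hS hF (le_inf (Subgroup.zpowers_le.2 hzS) (Subgroup.zpowers_le.2
      (Subgroup.mem_centralizer_iff.2 hzc))) fun x hx P f hf => ?_
    rcases hmem x hx with rfl | rfl
    · exact fun _ => hf.map_one
    · exact hall P f hf
  have h := le_center hcen
  rw [hZ, Subgroup.zpowers_le, Subgroup.mem_bot] at h
  exact hz1 h

/-- An automorphism moving the four-group of central involutions of `S` can be taken on `S`. -/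
theorem moved_top (hS : IsPGroup 2 S) (hF : F.IsSaturated 2) (hr : ¬ Cfsg.PRankAtLeast 2 3 ↥S)
    (h4 : Nat.card (omegaCentre S) = 4) {P : Subgroup Ω} (hP : F.IsCentric P) {α : MulAut P}
    (hα : α ∈ F.autGroup P) {z : Ω} (hz : z ∈ omegaCentre S) (hm : autFun α z ≠ z) :
    ∃ α' ∈ F.autGroup S, autFun α' z ≠ z := by
  haveI : Fact (Nat.Prime 2) := ⟨Nat.prime_two⟩
  haveI : Finite (omegaCentre P) := finite_of_le (omegaCentre_le.trans hP.1)
  haveI : Finite (omegaCentre S) := finite_of_le omegaCentre_le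
  have heq : omegaCentre S = omegaCentre P := Subgroup.eq_of_le_of_card_ge (omega_le_of_centric hP)
    (by rw [h4]; exact card_omega_le hS hr hP.1)
  have hWP : omegaCentre S ≤ P := heq ▸ omegaCentre_le
  have hnS : ∀ g ∈ S, ∀ x ∈ omegaCentre S, g * x * g⁻¹ = x := fun g hg x hx => by
    rw [(mem_omega.1 hx).2.1 g hg, mul_inv_cancel_right]
  have hN : normalizerIn S (omegaCentre S) = S := by
    refine le_antisymm inf_le_left fun g hg => mem_normalizerIn.2 ⟨hg, ?_⟩
    refine mem_normalizer_of_forall (fun x hx => ?_) fun x hx => ?_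
    · rw [hnS g hg x hx]; exact hx
    · have h := hnS g⁻¹ (inv_mem hg) x hx
      rw [inv_inv] at h
      rw [h]; exact hx
  have hfn : F.IsFullyNormalized (omegaCentre S) :=
    ⟨omegaCentre_le, fun Q _ => by rw [hN]; exact Subgroup.card_le_of_le inf_le_left⟩
  have hf : IsMap F (omegaCentre S) (autFun α) := ((mem_autGroup hP.1).1 hα).res hWP
  have hfW : fimg (autFun α) (omegaCentre S) = omegaCentre S :=
    Subgroup.eq_of_le_of_card_ge (fimg_le fun x hx => by
      rw [heq] at hx ⊢; exact autFun_omega α hx) hf.card_fimg.ge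
  obtain ⟨f', hf', he⟩ := receptive_extend (receptive_of_fullyNormalized hS hF hfn) hf hfW (N := S)
    (fun g hg => ⟨hN.ge hg, g, hg, fun x hx => by
      have hy : autFun α x ∈ omegaCentre S := hfW ▸ apply_mem_fimg _ hx
      rw [hnS g hg x hx, hnS g hg _ hy]⟩) omegaCentre_le
  obtain ⟨α', hα', hα'e⟩ := hf'.exists_aut (fimg_eq_self_of_source_top hf')
  exact ⟨α', hα', by rw [hα'e z (omegaCentre_le hz), he z hz]; exact hm⟩

/-- At a fully normalized subgroup an automorphism moving a central involution of `S` gives one of odd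
order moving a central involution of the subgroup. -/
theorem exists_odd_moved (hS : IsPGroup 2 S) (hF : F.IsSaturated 2) {P : Subgroup Ω}
    (hP : F.IsFullyNormalized P) {α : MulAut P} (hα : α ∈ F.autGroup P) {z : Ω}
    (hz : z ∈ omegaCentre P) (hzc : ∀ s ∈ S, s * z = z * s) (hm : autFun α z ≠ z) :
    ∃ β ∈ F.autGroup P, Odd (orderOf β) ∧ ∃ v ∈ omegaCentre P, autFun β v ≠ v := by
  haveI : Fact (Nat.Prime 2) := ⟨Nat.prime_two⟩
  haveI := finite_of_le hP.1
  by_contra hno
  push Not at hno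
  obtain ⟨-, R, hR⟩ := fullyAutomized_of_fullyNormalized hS hF hP
  let St : Subgroup (F.autGroup P) :=
    { carrier := {g | autFun (g : MulAut P) z = z}
      one_mem' := by
        show autFun (1 : MulAut P) z = z
        rw [autFun_one (omegaCentre_le hz)]
      mul_mem' := fun {a b : F.autGroup P} (ha : autFun (a : MulAut P) z = z) (hb : autFun (b : MulAut P) z = z) => by
        show autFun ((a : MulAut P) * (b : MulAut P)) z = z
        rw [autFun_mul _ _ (omegaCentre_le hz), hb, ha]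
      inv_mem' := fun {a : F.autGroup P} (ha : autFun (a : MulAut P) z = z) => by
        show autFun (a : MulAut P)⁻¹ z = z
        calc autFun (a : MulAut P)⁻¹ z = autFun (a : MulAut P)⁻¹ (autFun (a : MulAut P) z) := by rw [ha]
          _ = z := autFun_inv_apply _ (omegaCentre_le hz) }
  have hKp : IsPGroup 2 (F.autGroup P ⧸ fixer F P) := by
    intro q
    obtain ⟨g, rfl⟩ := QuotientGroup.mk'_surjective _ q
    obtain ⟨k, m, hm2, hgm⟩ :=
      Nat.exists_eq_pow_mul_and_not_dvd (orderOf_pos g).ne' 2 (by norm_num)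
    refine ⟨k, ?_⟩
    rw [← map_pow]
    refine (QuotientGroup.eq_one_iff _).2 (hno _ (g ^ 2 ^ k).2 ?_)
    rw [Subgroup.orderOf_coe, orderOf_pow_of_dvd (Nat.two_pow_pos k).ne' ⟨m, hgm⟩, hgm,
      Nat.mul_div_cancel_left _ (Nat.two_pow_pos k), Nat.odd_iff]
    omega
  have hRle : (R : Subgroup (F.autGroup P)) ≤ St := by
    intro g hg
    rw [hR] at hg
    obtain ⟨s, hs, h⟩ := mem_autInducedBy.1 (Subgroup.mem_subgroupOf.1 hg)
    show autFun (g : MulAut P) z = z
    have h' := h ⟨z, omegaCentre_le hz⟩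
    rw [show z = ((⟨z, omegaCentre_le hz⟩ : P) : Ω) from rfl, autFun_coe, h']
    show s * z * s⁻¹ = z
    rw [hzc s hs, mul_inv_cancel_right]
  have htop : fixer F P ⊔ R = ⊤ := by
    rw [← Subgroup.index_eq_one]
    obtain ⟨j, hj⟩ := IsPGroup.iff_card.1 hKp
    have h1 := Subgroup.index_dvd_of_le (le_sup_left : fixer F P ≤ fixer F P ⊔ R)
    have h2 := Subgroup.index_dvd_of_le (le_sup_right : (R : Subgroup _) ≤ fixer F P ⊔ R)
    have hKi : (fixer F P).index = 2 ^ j := by rw [Subgroup.index_eq_card, hj]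
    rw [hKi] at h1
    obtain ⟨i, -, hi⟩ := (Nat.dvd_prime_pow Nat.prime_two).1 h1
    rw [hi] at h2 ⊢
    rcases i with _ | i
    · rfl
    · exact absurd ((dvd_pow_self 2 (Nat.succ_ne_zero i)).trans h2) R.not_dvd_index
  have hle : (⊤ : Subgroup (F.autGroup P)) ≤ St := by
    rw [← htop]
    exact sup_le (fun g hg => hg z hz) hRle
  exact hm (hle (Subgroup.mem_top ⟨α, hα⟩))

/-- The data at a subgroup: an odd-order automorphism permutes the three central involutions. -/
theorem omega_rot (hS : IsPGroup 2 S) (hr : ¬ Cfsg.PRankAtLeast 2 3 ↥S) {P : Subgroup Ω} (hP : P ≤ S)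
    {β : MulAut P} (hodd : Odd (orderOf β)) {v : Ω} (hv : v ∈ omegaCentre P)
    (hm : autFun β v ≠ v) :
    NoSCN.Rot β (omegaIn P) ∧ Nat.card (omegaCentre P) = 4 := by
  haveI := finite_of_le hP
  obtain ⟨h1, h2⟩ := NoSCN.rot_of_moved hodd (D := omegaIn P)
    (by rw [card_omegaIn]; exact card_omega_le hS hr hP)
    (fun w hw => by
      show ((β w : P) : Ω) ∈ omegaCentre P
      rw [← autFun_coe]
      exact autFun_omega β hw)
    (fun w hw => Subtype.ext (mem_omega.1 hw).2.2)
    (v := ⟨v, omegaCentre_le hv⟩) hv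
    (fun e => hm (by
      rw [show v = ((⟨v, omegaCentre_le hv⟩ : P) : Ω) from rfl, autFun_coe, e]))
  exact ⟨h1, by rw [← card_omegaIn]; exact h2⟩

/-- An element of the normalizer of such an essential subgroup fixing its central involutions lies in
it. -/
theorem mem_of_fix (hS : IsPGroup 2 S) (hF : F.IsSaturated 2) (hr : ¬ Cfsg.PRankAtLeast 2 3 ↥S)
    {P : Subgroup Ω} (hP : F.IsEssential 2 P) {β : MulAut P} (hβ : β ∈ F.autGroup P)
    (hodd : Odd (orderOf β)) {v : Ω} (hv : v ∈ omegaCentre P) (hm : autFun β v ≠ v)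
    {s : Ω} (hs : s ∈ normalizerIn S P) (hfix : ∀ w ∈ omegaCentre P, s * w = w * s) : s ∈ P := by
  haveI : Fact (Nat.Prime 2) := ⟨Nat.prime_two⟩
  have hPS := hP.1.1
  haveI := finite_of_le hPS
  obtain ⟨hrot, h4⟩ := omega_rot hS hr hPS hodd hv hm
  obtain ⟨-, R, hR⟩ := fullyAutomized_of_fullyNormalized hS hF hP.2.1
  -- an automorphism normalizing the fixing part of the Sylow subgroup, acting as `β`
  obtain ⟨n, hnK, hnR⟩ : ∃ n : F.autGroup P, (∀ w ∈ omegaCentre P,
      autFun (n : MulAut P) w = autFun β w) ∧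
      ∀ r ∈ (R : Subgroup (F.autGroup P)) ⊓ fixer F P, n * r * n⁻¹ ∈ (R : Subgroup _) ⊓ fixer F P := by
    let b : F.autGroup P := ⟨β, hβ⟩
    have hsyl := isSylowOf_inf_normal R (fixer F P)
    obtain ⟨l, hl, hle⟩ := hsyl.exists_conj_le
      (A := ((R : Subgroup (F.autGroup P)) ⊓ fixer F P).map (MulAut.conj b).toMonoidHom)
      ((R.2.to_le inf_le_left).map _)
      (by rintro _ ⟨r, hr', rfl⟩; exact (fixer_normal F P).conj_mem r hr'.2 b)
    refine ⟨l * b, fun w hw => ?_, fun r hr' => ?_⟩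
    · rw [Subgroup.coe_mul, autFun_mul _ _ (omegaCentre_le hw)]
      exact hl _ (autFun_omega _ hw)
    · have h := hle ⟨_, ⟨r, hr', rfl⟩, rfl⟩
      simpa [mul_assoc] using h
  let N0 : Subgroup Ω := normalizerIn S P ⊓ Subgroup.centralizer (omegaCentre P : Set Ω)
  have hmem0 : ∀ {g : Ω}, g ∈ N0 ↔ g ∈ normalizerIn S P ∧ ∀ w ∈ omegaCentre P, g * w = w * g :=
    fun {g} => ⟨fun h => ⟨h.1, fun w hw => (Subgroup.mem_centralizer_iff.1 h.2 w hw).symm⟩,
      fun h => ⟨h.1, Subgroup.mem_centralizer_iff.2 fun w hw => (h.2 w hw).symm⟩⟩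
  have hPN : P ≤ N0 := fun g hg =>
    hmem0.2 ⟨le_normalizerIn hPS hg, fun w hw => (mem_omega.1 hw).2.1 g hg⟩
  have hN0S : N0 ≤ S := inf_le_left.trans inf_le_left
  haveI := finite_of_le hN0S
  have hnmap : IsMap F P (autFun (n : MulAut P)) := (mem_autGroup hPS).1 n.2
  obtain ⟨f, hf, hfe⟩ := receptive_extend (receptive_of_fullyNormalized hS hF hP.2.1) hnmap
    (fimg_autFun _) (N := N0) (fun g hg => by
      obtain ⟨hg1, hg2⟩ := hmem0.1 hg
      refine ⟨hg1, ?_⟩
      let r : F.autGroup P := ⟨conjAut hg1, conjAut_mem hPS hg1⟩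
      have hr' : r ∈ (R : Subgroup (F.autGroup P)) ⊓ fixer F P := by
        refine ⟨?_, fun w hw => ?_⟩
        · rw [hR]; exact conjAut_mem_induced hg1
        · show autFun (conjAut hg1) w = w
          rw [autFun_conjAut hg1 (omegaCentre_le hw), hg2 w hw, mul_inv_cancel_right]
      have hconj := (hnR r hr').1
      rw [hR] at hconj
      obtain ⟨k, hk, hke⟩ := mem_autInducedBy.1 (Subgroup.mem_subgroupOf.1 hconj)
      refine ⟨k, hk, fun x hx => ?_⟩
      have h := hke ((n : MulAut P) ⟨x, hx⟩)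
      have e : ((n * r * n⁻¹ : F.autGroup P) : MulAut P) ((n : MulAut P) ⟨x, hx⟩) =
          (n : MulAut P) (conjAut hg1 ⟨x, hx⟩) := by simp [r]
      rw [e] at h
      show autFun (n : MulAut P) ((conjAut hg1 ⟨x, hx⟩ : P) : Ω) =
        k * autFun (n : MulAut P) ((⟨x, hx⟩ : P) : Ω) * k⁻¹
      rw [autFun_coe, autFun_coe]
      exact h) hPN
  have hfW : ∀ w ∈ omegaCentre P, f w = autFun β w := fun w hw => by
    rw [hfe w (omegaCentre_le hw), hnK w hw]
  have hfP : fimg f P = P := by rw [fimg_congr hfe, fimg_autFun]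
  have hfN : fimg f N0 = N0 := by
    refine Subgroup.eq_of_le_of_card_ge (fimg_le fun g hg => hmem0.2 ⟨?_, fun w hw => ?_⟩)
      hf.card_fimg.ge
    · have h := hf.map_normalizerIn hPN hg (mem_normalizerIn.1 (hmem0.1 hg).1).2
      rwa [hfP] at h
    · have hw' := autFun_omega (β⁻¹ : MulAut P) hw
      have hback : f (autFun β⁻¹ w) = w := by
        rw [hfW _ hw', ← autFun_mul _ _ (omegaCentre_le hw), mul_inv_cancel,
          autFun_one (omegaCentre_le hw)]
      rw [← hback, ← hf.map_mul hg (hPN (omegaCentre_le hw')),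
        ← hf.map_mul (hPN (omegaCentre_le hw')) hg, (hmem0.1 hg).2 _ hw']
  obtain ⟨α, -, hαe⟩ := hf.exists_aut hfN
  -- the central involutions of `N0`
  have hW0 : omegaCentre N0 = omegaCentre P := by
    haveI : Finite (omegaCentre N0) := finite_of_le (omegaCentre_le.trans hN0S)
    refine (Subgroup.eq_of_le_of_card_ge (fun w hw => mem_omega.2 ⟨hPN (omegaCentre_le hw),
      fun u hu => (hmem0.1 hu).2 w hw, (mem_omega.1 hw).2.2⟩) ?_).symm
    rw [h4]; exact card_omega_le hS hr hN0S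
  have hD := mem_omegaIn_iff hS hr hN0S (hW0 ▸ h4)
  have hact : ∀ (w : Ω) (hw : w ∈ omegaCentre P),
      ((α ⟨w, hPN (omegaCentre_le hw)⟩ : N0) : Ω) = ((β ⟨w, omegaCentre_le hw⟩ : P) : Ω) := by
    intro w hw
    rw [← autFun_coe, hαe _ (hPN (omegaCentre_le hw)), hfW w hw, ← autFun_coe]
  have h3 : ∀ w ∈ omegaIn N0, α (α (α w)) = w := by
    rintro ⟨w, hwN⟩ hw
    have hwP : w ∈ omegaCentre P := hW0 ▸ hw
    obtain ⟨w', hw'⟩ : ∃ w' : P, w' = ⟨w, omegaCentre_le hwP⟩ := ⟨_, rfl⟩
    have hw'D : w' ∈ omegaIn P := by rw [hw']; exact hwP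
    have hstep : ∀ u : P, u ∈ omegaIn P → ∀ (u' : N0), (u' : Ω) = u →
        ((α u' : N0) : Ω) = ((β u : P) : Ω) := by
      intro u hu u' he
      rw [show u' = ⟨u, hPN (omegaCentre_le hu)⟩ from Subtype.ext he]
      exact hact u hu
    refine Subtype.ext ?_
    rw [hstep _ (hrot.mem _ (hrot.mem _ hw'D)) _
      (hstep _ (hrot.mem _ hw'D) _ (hstep _ hw'D _ (by rw [hw']))), hrot.three hw'D, hw']
  have hsN : s ∈ N0 := hmem0.2 ⟨hs, hfix⟩
  have hcentr : ∀ t ∈ S, (∀ x ∈ P, x * t = t * x) → t ∈ P := fun t ht h =>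
    centralizerIn_le_of_centric hP.1 (mem_centralizerIn.2 ⟨ht, h⟩)
  rcases types (hS.to_le hN0S) (g := α) (D := omegaIn N0) hD
      (by rw [card_omegaIn, hW0, h4])
      (v := ⟨v, hPN (omegaCentre_le hv)⟩) (hW0.symm ▸ hv : v ∈ omegaCentre N0)
      (fun e => hm (by
        rw [show v = ((⟨v, omegaCentre_le hv⟩ : P) : Ω) from rfl, autFun_coe]
        show _ = v
        rw [← hact v hv, e])) h3 with ⟨hab, -⟩ | ⟨ψ, -, hU, hDZ⟩
  · exact hcentr s hs.1 fun x hx => congrArg Subtype.val (hab ⟨x, hPN hx⟩ ⟨s, hsN⟩)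
  by_cases hexp : ∀ x : P, x * x = 1
  · refine hcentr s hs.1 fun x hx => ?_
    exact (hfix x (mem_omega_of_sq hS hr hPS h4 hx (congrArg Subtype.val (hexp ⟨x, hx⟩)))).symm
  push Not at hexp
  obtain ⟨x, hx⟩ := hexp
  have hPp : IsPGroup 2 P := hS.to_le hPS
  have hsqW : x * x ∈ omegaIn P := by
    have h : (⟨x, hPN x.2⟩ : N0) * ⟨x, hPN x.2⟩ ∈ omegaIn N0 := hDZ ▸ hU.sq _
    show ((x * x : P) : Ω) ∈ omegaCentre P
    rw [← hW0]; exact h
  have hWF : omegaIn P ≤ frattini P := by
    have hinv : ∀ y ∈ frattini P, β y ∈ frattini P := fun y hy =>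
      ((inferInstance : (frattini P).Characteristic).fixed β).ge hy
    have hx2 : x * x ∈ frattini P := by rw [← pow_two]; exact Grp.pGroup_pow_mem_frattini hPp x
    intro w hw
    rcases hrot.all _ hsqW hx w hw with e | e | e | e <;> rw [e]
    · exact one_mem _
    · exact hx2
    · exact hinv _ hx2
    · exact hinv _ (hinv _ hx2)
  have hγ : conjAut hs ∈ Inn P := by
    refine mem_inn_of_frattini_stab hS hP (conjAut_mem hPS hs) fun y => hWF ?_
    show ((y⁻¹ * conjAut hs y : P) : Ω) ∈ omegaCentre P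
    have h : FpfThree.c (⟨y, hPN y.2⟩⁻¹ : N0) ⟨s, hsN⟩ ∈ omegaIn N0 :=
      hDZ ▸ hU.fpf.comm_center hU.pgroup _ _
    rw [← hW0]
    have h' : ((FpfThree.c (⟨y, hPN y.2⟩⁻¹ : N0) ⟨s, hsN⟩ : N0) : Ω) ∈ omegaCentre N0 := h
    convert h' using 1
    simp [FpfThree.c, conjAut_apply hs, mul_assoc]
  obtain ⟨e, he⟩ := hγ
  have hes : (e : Ω)⁻¹ * s ∈ P := by
    refine hcentr _ (S.mul_mem (S.inv_mem (hPS e.2)) hs.1) fun y hy => ?_
    have h : ((MulAut.conj e ⟨y, hy⟩ : P) : Ω) = ((conjAut hs ⟨y, hy⟩ : P) : Ω) := by rw [he]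
    rw [conjAut_apply hs, MulAut.conj_apply, Subgroup.coe_mul, Subgroup.coe_mul, Subgroup.coe_inv] at h
    show y * ((e : Ω)⁻¹ * s) = (e : Ω)⁻¹ * s * y
    calc y * ((e : Ω)⁻¹ * s) = (e : Ω)⁻¹ * ((e : Ω) * y * (e : Ω)⁻¹) * s := by group
      _ = _ := by rw [h]; group
  have := P.mul_mem e.2 hes
  rwa [mul_inv_cancel_left] at this

end Cfsg.Agent.Block.CentreFreeTwo
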