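import Mathlib
import Cfsg.Agent.Lib.Block.CentreFreeTwo.Fusion

/-!
# The list of 2-groups of rank two carrying a fusion system with trivial centre

Such a group is dihedral, quasi-dihedral, wreathed, homocyclic of rank two, or of the type of a Sylow
2-subgroup of `PSU(3, 4)`.
-/

set_option autoImplicit false

namespace Cfsg.Agent.Block.CentreFreeTwo

open Cfsg.Agent.Fus Cfsg.Agent.Invol
open Cfsg.FusionSystem (normalizerIn centralizerIn)

universe u

variable {Ω : Type u} [Group Ω] {S : Subgroup Ω} [Finite S] {F : FusionSystem S}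

/-- In the nonabelian type, an automorphism fixing `z` and exchanging the other two central involutions,
which is an involution modulo inner automorphisms, does not occur. -/
theorem unitary_absurd {T : Type*} [Group T] [Finite T] {ψ : MulAut T}
    (hU : SixtyFour.Unitary ψ) (σ : MulAut T) (hσ2 : ∀ x, x⁻¹ * σ (σ x) ∈ Subgroup.center T)
    {z : T} (hz : z ∈ Subgroup.center T) (hz1 : z ≠ 1) (hzf : σ z = z)
    (hswap : ∀ w ∈ Subgroup.center T, w ≠ 1 → w ≠ z → σ w = z * w) : False := by
  have hr := hU.rot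
  set Z := Subgroup.center T
  set a := ψ z with ha
  set b := ψ (ψ z) with hb
  have haZ : a ∈ Z := hr.mem z hz
  have hbZ : b ∈ Z := hr.mem a haZ
  have hab : b = z * a := hr.two z hz
  have ha1 : a ≠ 1 := fun e => hz1 (ψ.injective (e.trans (map_one ψ).symm))
  have haz : a ≠ z := fun e => hz1 (hr.ne z hz e)
  have hσa : σ a = b := by rw [hab]; exact hswap a haZ ha1 haz
  have hσb : σ b = a := by rw [hab, map_mul, hzf, hσa, hab, ← mul_assoc, hr.sq z hz, one_mul]
  have hψb : ψ b = z := hr.three hz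
  -- the automorphisms trivial modulo the centre
  have hmemc : ∀ (f : MulAut T), ∀ w ∈ Z, f w ∈ Z := fun f w hw => hU.inv _ (by
    rw [← map_mul, hr.sq w hw, map_one])
  let Tr : Subgroup (MulAut T) :=
    { carrier := {f | ∀ x, x⁻¹ * f x ∈ Z}
      one_mem' := fun x => by simp
      mul_mem' := fun {f g} hf hg x => by
        rw [MulAut.mul_apply, show x⁻¹ * f (g x) = (x⁻¹ * g x) * ((g x)⁻¹ * f (g x)) by group]
        exact mul_mem (hg x) (hf _)
      inv_mem' := fun {f} hf x => by
        rw [show x⁻¹ * f⁻¹ x = ((f⁻¹ x)⁻¹ * f (f⁻¹ x))⁻¹ by simp]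
        exact inv_mem (hf _) }
  haveI hTrn : Tr.Normal := by
    refine ⟨fun f hf g x => ?_⟩
    have h := hmemc g _ (hf (g⁻¹ x))
    rw [map_mul, map_inv, MulAut.apply_inv_self] at h
    exact h
  let π := QuotientGroup.mk' Tr
  have hπσ : π σ * π σ = 1 := by
    rw [← map_mul]; exact (QuotientGroup.eq_one_iff _).2 hσ2
  have hσi : (π σ)⁻¹ = π σ := inv_eq_of_mul_eq_one_right hπσ
  obtain ⟨g, hg⟩ : ∃ g, g = σ * (ψ * σ * ψ⁻¹) := ⟨_, rfl⟩
  have hψi : ∀ x, ψ⁻¹ x = ψ (ψ x) := fun x => ψ.injective (by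
    rw [MulAut.apply_inv_self, hU.fpf.three])
  have hgapp : ∀ x, g x = σ (ψ (σ (ψ (ψ x)))) := fun x => by
    rw [hg, MulAut.mul_apply, MulAut.mul_apply, MulAut.mul_apply, hψi]
  have hgz : g z = a := by rw [hgapp, ← ha, ← hb, hσb, ← hb, hσb]
  have hga : g a = b := by rw [hgapp, ← hb, hψb, hzf, ← ha, hσa]
  have hgb : g b = z := by rw [hgapp, hψb, ← ha, hσa, hψb, hzf]
  have h3 : ∀ w ∈ Z, g (g (g w)) = w := by
    intro w hw
    rcases hr.all z hz hz1 w hw with e | e | e | e <;> rw [e]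
    · simp
    · rw [hgz, hga, hgb]
    · rw [hga, hgb, hgz]
    · rw [hgb, hgz, hga]
  have hD : ∀ x, x ∈ Z ↔ x * x = 1 := fun x => ⟨hr.sq x, hU.inv x⟩
  rcases types hU.pgroup hD hU.centre hz (by rw [hgz]; exact haz) h3 with ⟨hcm, -⟩ | ⟨ψ', hψ', hU', -⟩
  · have h : Z = ⊤ := eq_top_iff.2 fun x _ => Subgroup.mem_center_iff.2 fun y => hcm y x
    have h4 := hU.centre
    rw [show Subgroup.center T = ⊤ from h, Subgroup.card_top, hU.order] at h4
    omega
  refine no_inverting hU' σ hσ2 (fun x => ?_) hz hz1 hzf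
  have hinv : π σ * π g * π σ = (π g)⁻¹ := by
    rw [hg, map_mul, map_mul, map_mul, map_inv, mul_inv_rev, mul_inv_rev, mul_inv_rev, inv_inv, hσi,
      ← mul_assoc (π σ) (π σ), hπσ, one_mul]
    group
  obtain ⟨k, hk⟩ := Subgroup.mem_zpowers_iff.1 hψ'
  have hinvk : π σ * π ψ' * (π σ)⁻¹ = (π ψ')⁻¹ := by
    rw [← hk, map_zpow, ← conj_zpow, hσi, hinv, inv_zpow]
  have hthree : π ψ' * π ψ' = (π ψ')⁻¹ := by
    refine eq_inv_of_mul_eq_one_left ?_
    rw [← map_mul, ← map_mul,
      show ψ' * ψ' * ψ' = 1 from MulEquiv.ext fun y => hU'.fpf.three y, map_one]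
  have heq : π (σ * ψ') = π (ψ' * ψ' * σ) := by
    rw [map_mul, map_mul, map_mul, hthree, ← hinvk, inv_mul_cancel_right]
  obtain ⟨τ, hτ⟩ : ∃ τ, τ = (ψ' * ψ' * σ)⁻¹ * (σ * ψ') := ⟨_, rfl⟩
  have hτTr : τ ∈ Tr := hτ ▸ QuotientGroup.eq.1 heq.symm
  have h := hmemc (ψ' * ψ' * σ) _ (hτTr x)
  rw [map_mul, map_inv, ← MulAut.mul_apply, hτ, mul_inv_cancel_left] at h
  exact h

/-- Abelian homocyclic groups of rank two and exponent two have order four. -/
theorem card_of_homocyclic {T : Type*} [Group T] {n : ℕ}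
    (e : T ≃* Multiplicative (ZMod (2 ^ n) × ZMod (2 ^ n))) : Nat.card T = 2 ^ n * 2 ^ n := by
  rw [Nat.card_congr e.toEquiv, Nat.card_congr Multiplicative.toAdd, Nat.card_prod, Nat.card_zmod]

/-- The case of a single central involution of `S`, moved at an essential subgroup. -/
theorem at_essential (hS : IsPGroup 2 S) (hF : F.IsSaturated 2)
    (hr : ¬ Cfsg.PRankAtLeast 2 3 ↥S) {P : Subgroup Ω} (hP : F.IsEssential 2 P) (hne : P ≠ S)
    {z : Ω} (hz : z ∈ omegaCentre S) {α : MulAut P} (hα : α ∈ F.autGroup P)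
    (hm : autFun α z ≠ z) :
    (∃ m : ℕ, 2 ≤ m ∧ Nonempty (↥S ≃* DihedralGroup m)) ∨ Cfsg.IsQuasiDihedral ↥S ∨
      Cfsg.IsWreathed ↥S := by
  haveI : Fact (Nat.Prime 2) := ⟨Nat.prime_two⟩
  have hPS := hP.1.1
  haveI := finite_of_le hPS
  have hPp : IsPGroup 2 P := hS.to_le hPS
  have hzP := omega_le_of_centric hP.1 hz
  have hzc : ∀ s ∈ S, s * z = z * s := (mem_omega.1 hz).2.1
  obtain ⟨β, hβ, hodd, v, hv, hvm⟩ := exists_odd_moved hS hF hP.2.1 hα hzP hzc hm
  obtain ⟨hrot, h4⟩ := omega_rot hS hr hPS hodd hv hvm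
  have hz1 : z ≠ 1 := fun e => hm (by
    rw [e, show (1 : Ω) = ((1 : P) : Ω) from rfl, autFun_coe, map_one])
  have hD := mem_omegaIn_iff hS hr hPS h4
  obtain ⟨zP, hzPdef⟩ : ∃ x : P, x = ⟨z, omegaCentre_le hzP⟩ := ⟨_, rfl⟩
  have hzD : zP ∈ omegaIn P := by rw [hzPdef]; exact hzP
  have hzP1 : zP ≠ 1 := fun e => hz1 (by rw [hzPdef] at e; exact congrArg Subtype.val e)
  -- the action of the normalizer
  have hfixz : ∀ {s : Ω} (hs : s ∈ normalizerIn S P), conjAut hs zP = zP := fun {s} hs => by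
    refine Subtype.ext ?_
    rw [conjAut_apply hs, hzPdef]
    show s * z * s⁻¹ = z
    rw [hzc s hs.1, mul_inv_cancel_right]
  have hout : ∀ {s : Ω} (hs : s ∈ normalizerIn S P), s ∉ P → ∀ w ∈ omegaIn P, w ≠ 1 → w ≠ zP →
      conjAut hs w = zP * w := by
    intro s hs hsP w hw hw1 hwz
    have hmem : conjAut hs w ∈ omegaIn P := (hD _).2 (by rw [← map_mul, (hD w).1 hw, map_one])
    have hcases : ∀ u ∈ omegaIn P, u = 1 ∨ u = zP ∨ u = w ∨ u = zP * w := by
      intro u hu
      by_contra hh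
      push Not at hh
      obtain ⟨hu1, hu2, hu3, hu4⟩ := hh
      let f : Fin 5 → omegaIn P :=
        ![1, ⟨zP, hzD⟩, ⟨w, hw⟩, ⟨zP * w, mul_mem hzD hw⟩, ⟨u, hu⟩]
      have hzw1 : zP * w ≠ 1 := fun e => hwz (by
        calc w = zP * zP * w := by rw [(hD zP).1 hzD, one_mul]
          _ = zP := by rw [mul_assoc, e, mul_one])
      have hzwz : zP * w ≠ zP := fun e => hw1 (mul_eq_left.1 e)
      have hzww : zP * w ≠ w := fun e => hzP1 (mul_eq_right.1 e)
      have hf : Function.Injective f := by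
        intro a b hab
        have h : ((f a : omegaIn P) : P) = f b := congrArg Subtype.val hab
        fin_cases a <;> fin_cases b <;> first
          | rfl
          | exact absurd h hzP1
          | exact absurd h.symm hzP1
          | exact absurd h hw1
          | exact absurd h.symm hw1
          | exact absurd h hwz
          | exact absurd h.symm hwz
          | exact absurd h hzw1
          | exact absurd h.symm hzw1
          | exact absurd h hzwz
          | exact absurd h.symm hzwz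
          | exact absurd h hzww
          | exact absurd h.symm hzww
          | exact absurd h hu1
          | exact absurd h.symm hu1
          | exact absurd h hu2
          | exact absurd h.symm hu2
          | exact absurd h hu3
          | exact absurd h.symm hu3
          | exact absurd h hu4
          | exact absurd h.symm hu4
      have hle := Nat.card_le_card_of_injective f hf
      rw [Nat.card_fin, card_omegaIn, h4] at hle
      omega
    rcases hcases _ hmem with e | e | e | e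
    · exact absurd ((map_eq_one_iff _ (conjAut hs).injective).1 e) hw1
    · exact absurd ((conjAut hs).injective (e.trans (hfixz hs).symm)) hwz
    · refine absurd (mem_of_fix hS hF hr hP hβ hodd hv hvm hs fun x hx => ?_) hsP
      obtain ⟨x', hx'⟩ : ∃ x' : P, x' = ⟨x, omegaCentre_le hx⟩ := ⟨_, rfl⟩
      have hfx : conjAut hs x' = x' := by
        rcases hcases x' (by rw [hx']; exact hx) with e' | e' | e' | e' <;> rw [e']
        · exact map_one _
        · exact hfixz hs
        · exact e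
        · rw [map_mul, hfixz hs, e]
      have h := congrArg Subtype.val hfx
      rw [conjAut_apply hs, hx'] at h
      exact mul_inv_eq_iff_eq_mul.1 h
    · exact e
  have hlt : P < S := lt_of_le_of_ne hPS hne
  obtain ⟨s, hs, hsP⟩ := SetLike.exists_of_lt (lt_normalizerIn hS hlt)
  -- two elements outside `P` differ by one of `P`
  have hpair : ∀ t ∈ normalizerIn S P, t ∉ P → t * s ∈ P := by
    intro t ht htP
    refine mem_of_fix hS hF hr hP hβ hodd hv hvm (mul_mem ht hs) fun x hx => ?_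
    have key : ∀ x' : P, x' ∈ omegaIn P → conjAut ht (conjAut hs x') = x' := by
      intro x' hx'
      by_cases h1 : x' = 1
      · rw [h1, map_one, map_one]
      by_cases h2 : x' = zP
      · rw [h2, hfixz hs, hfixz ht]
      rw [hout hs hsP x' hx' h1 h2, map_mul, hfixz ht, hout ht htP x' hx' h1 h2, ← mul_assoc,
        (hD zP).1 hzD, one_mul]
    have h := congrArg Subtype.val (key ⟨x, omegaCentre_le hx⟩ hx)
    rw [conjAut_apply, conjAut_apply] at h
    refine mul_inv_eq_iff_eq_mul.1 ?_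
    calc t * s * x * (t * s)⁻¹ = t * (s * x * s⁻¹) * t⁻¹ := by group
      _ = x := h
  have hs2 : s * s ∈ P := hpair s hs hsP
  -- a moved central involution
  obtain ⟨w₀, hw₀, hw₀1, hw₀z⟩ : ∃ w ∈ omegaIn P, w ≠ 1 ∧ w ≠ zP :=
    ⟨β zP, hrot.mem _ hzD, fun e => hzP1 (β.injective (e.trans (map_one β).symm)),
      fun e => hzP1 (hrot.ne _ hzD e)⟩
  rcases types hPp (g := β) hD (by rw [card_omegaIn, h4]) (v := ⟨v, omegaCentre_le hv⟩) hv
      (fun e => hvm (by
        rw [show v = ((⟨v, omegaCentre_le hv⟩ : P) : Ω) from rfl, autFun_coe, e]))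
      (fun w hw => hrot.three hw) with ⟨hab, n, hn, ⟨e⟩⟩ | ⟨ψ, -, hU, hDZ⟩
  · have habΩ : ∀ a ∈ P, ∀ b ∈ P, a * b = b * a := fun a ha b hb =>
      congrArg Subtype.val (hab ⟨a, ha⟩ ⟨b, hb⟩)
    rcases Nat.lt_or_ge n 2 with hn2 | hn2
    · -- self-centralizing four-group
      obtain rfl : n = 1 := by omega
      have hcard : Nat.card P = 4 := card_of_homocyclic e
      have hPW : ∀ x ∈ P, x ∈ omegaCentre P := fun x hx => by
        haveI : Finite (omegaCentre P) := finite_of_le (omegaCentre_le.trans hPS)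
        rw [Subgroup.eq_of_le_of_card_ge omegaCentre_le (by rw [h4, hcard])]; exact hx
      have hne' : P.subgroupOf S ≠ ⊤ := fun h => hne (le_antisymm hPS (Subgroup.subgroupOf_eq_top.1 h))
      have hC : Subgroup.centralizer ((P.subgroupOf S : Subgroup S) : Set S) = P.subgroupOf S := by
        refine le_antisymm (fun g hg => ?_) fun g hg => Subgroup.mem_centralizer_iff.2 fun h hh => ?_
        · refine centralizerIn_le_of_centric hP.1 (mem_centralizerIn.2 ⟨g.2, fun y hy => ?_⟩)
          exact congrArg Subtype.val (Subgroup.mem_centralizer_iff.1 hg ⟨y, hPS hy⟩ hy)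
        · exact Subtype.ext (habΩ _ hh _ hg)
      rcases of_selfCentralizing hS (P.subgroupOf S)
          (by rw [Nat.card_congr (Subgroup.subgroupOfEquivOfLe hPS).toEquiv, hcard])
          (fun a ha => Subtype.ext (mem_omega.1 (hPW _ ha)).2.2) hC hne' with h | h
      · exact Or.inl h
      · exact Or.inr (Or.inl h)
    · refine Or.inr (Or.inr ?_)
      set N := normalizerIn S P with hN
      have hPN : P ≤ N := le_normalizerIn hPS
      haveI : Finite N := finite_of_le inf_le_left
      have hidx : (P.subgroupOf N).index = 2 := by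
        refine Subgroup.index_eq_two_iff.2 ⟨⟨s, hs⟩, fun b => ?_⟩
        by_cases hb : (b : Ω) ∈ P
        · refine Or.inr ⟨hb, fun h => hsP ?_⟩
          have := P.mul_mem (P.inv_mem hb) (show (b : Ω) * s ∈ P from h)
          rwa [inv_mul_cancel_left] at this
        · exact Or.inl ⟨hpair b b.2 hb, hb⟩
      obtain ⟨hwr, huniq⟩ := wreathed (T := N) (P := P.subgroupOf N)
        (fun a ha b hb => Subtype.ext (habΩ _ ha _ hb)) hn2
        ((Subgroup.subgroupOfEquivOfLe hPN).trans e) hidx (s := ⟨s, hs⟩) hsP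
        (w := ⟨w₀, hPN w₀.2⟩) w₀.2
        (Subtype.ext (show (w₀ : Ω) * w₀ = 1 from congrArg Subtype.val ((hD w₀).1 hw₀)))
        (fun h => hzP1 (by
          have h' : conjAut hs w₀ = w₀ := Subtype.ext (by
            rw [conjAut_apply hs]; exact congrArg Subtype.val h)
          rw [hout hs hsP w₀ hw₀ hw₀1 hw₀z] at h'
          exact mul_eq_right.1 h'))
      suffices hNS : N = S by rw [hNS] at hwr; exact hwr
      by_contra hNne
      have hNlt : N < S := lt_of_le_of_ne inf_le_left hNne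
      obtain ⟨t, ht, htN⟩ := SetLike.exists_of_lt (lt_normalizerIn hS hNlt)
      have htS := (mem_normalizerIn.1 ht).1
      have htn := Subgroup.mem_normalizer_iff.1 (mem_normalizerIn.1 ht).2
      let c : N ≃* N :=
        { toFun := fun x => ⟨t * x * t⁻¹, (htn x).1 x.2⟩
          invFun := fun x => ⟨t⁻¹ * x * t, (htn _).2 (by
            rw [show t * (t⁻¹ * x * t) * t⁻¹ = x by group]; exact x.2)⟩
          left_inv := fun x => Subtype.ext (by simp [mul_assoc])
          right_inv := fun x => Subtype.ext (by simp [mul_assoc])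
          map_mul' := fun x y => Subtype.ext (by simp [mul_assoc]) }
      have hQ := huniq ((P.subgroupOf N).map c.toMonoidHom)
        (by rw [Subgroup.index_map_of_bijective c.bijective]; exact hidx)
        (by
          rintro _ ⟨a, ha, rfl⟩ _ ⟨b, hb, rfl⟩
          rw [← map_mul, ← map_mul,
            show a * b = b * a from Subtype.ext (habΩ _ ha _ hb)])
      refine htN (mem_normalizerIn.2 ⟨htS, mem_normalizer_of_forall (fun x hx => ?_) fun x hx => ?_⟩)
      · exact hQ.le ⟨⟨x, hPN hx⟩, hx, rfl⟩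
      · obtain ⟨y, hy, hye⟩ := hQ.ge (show (⟨x, hPN hx⟩ : N) ∈ P.subgroupOf N from hx)
        have h : t * (y : Ω) * t⁻¹ = x := congrArg Subtype.val hye
        rw [← h, show t⁻¹ * (t * (y : Ω) * t⁻¹) * t = y by group]
        exact hy
  · refine (unitary_absurd hU (conjAut hs) (fun x => ?_) (hDZ ▸ hzD) hzP1 (hfixz hs)
      fun w hw hw1 hwz => hout hs hsP w (hDZ ▸ hw) hw1 hwz).elim
    have h : x⁻¹ * conjAut hs (conjAut hs x) = FpfThree.c x⁻¹ ⟨s * s, hs2⟩ := by
      refine Subtype.ext ?_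
      simp only [FpfThree.c, Subgroup.coe_mul, Subgroup.coe_inv, conjAut_apply hs]
      group
    rw [h]
    exact hU.fpf.comm_center hU.pgroup _ _

/-- The list of 2-groups of rank two carrying a saturated fusion system with trivial centre. -/
theorem list (hS : IsPGroup 2 S) (hF : F.IsSaturated 2)
    (hr : Cfsg.PRankAtLeast 2 2 ↥S ∧ ¬ Cfsg.PRankAtLeast 2 3 ↥S) (hZ : F.center = ⊥) :
    (∃ m : ℕ, 2 ≤ m ∧ Nonempty (↥S ≃* DihedralGroup m)) ∨ Cfsg.IsQuasiDihedral ↥S ∨
      Cfsg.IsWreathed ↥S ∨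
      (∃ n : ℕ, 1 ≤ n ∧ Nonempty (↥S ≃* Multiplicative (ZMod (2 ^ n) × ZMod (2 ^ n)))) ∨
      ∃ ψ : MulAut ↥S, SixtyFour.Unitary ψ := by
  haveI : Fact (Nat.Prime 2) := ⟨Nat.prime_two⟩
  obtain ⟨hr2, hr3⟩ := hr
  obtain ⟨z, hz, hz1⟩ : ∃ z ∈ omegaCentre S, z ≠ 1 := by
    obtain ⟨A, -, -, hA⟩ := hr2
    have hA' : 2 ^ 2 ≤ Nat.card S := hA.trans (Subgroup.card_le_card_group A)
    haveI : Nontrivial S := Finite.one_lt_card_iff_nontrivial.1 (by omega)
    haveI : Nontrivial (Subgroup.center S) := hS.center_nontrivial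
    obtain ⟨c, hc⟩ := exists_prime_orderOf_dvd_card' (G := Subgroup.center S) 2 (by
      obtain ⟨j, hj⟩ := IsPGroup.iff_card.mp (hS.to_subgroup (Subgroup.center S))
      rw [hj]
      exact dvd_pow_self 2 (fun e => by
        have := Finite.one_lt_card (α := Subgroup.center S); rw [hj, e, pow_zero] at this; omega))
    refine ⟨((c : S) : Ω), mem_omega.2 ⟨(c : S).2, fun u hu => ?_, ?_⟩, fun e => ?_⟩
    · exact congrArg Subtype.val (Subgroup.mem_center_iff.1 c.2 ⟨u, hu⟩)
    · have h := pow_orderOf_eq_one c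
      rw [hc, pow_two] at h
      exact congrArg (fun x : Subgroup.center S => ((x : S) : Ω)) h
    · have : c = 1 := Subtype.ext (Subtype.ext e)
      rw [this, orderOf_one] at hc
      omega
  obtain ⟨P, hP, α, hα, hm⟩ := exists_moved hS hF hZ hz hz1
  by_cases hZ4 : Nat.card (omegaCentre S) = 4
  · -- all involutions are central
    obtain ⟨α', hα', hm'⟩ : ∃ α' ∈ F.autGroup S, autFun α' z ≠ z := by
      rcases hP with rfl | hP
      · exact ⟨α, hα, hm⟩
      · exact moved_top hS hF hr3 hZ4 hP.1 hα hz hm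
    obtain ⟨β, -, hodd, v, hv, hvm⟩ := exists_odd_moved hS hF (fullyNormalized_self F) hα' hz
      (mem_omega.1 hz).2.1 hm'
    obtain ⟨hrot, -⟩ := omega_rot hS hr3 le_rfl hodd hv hvm
    rcases types hS (g := β) (mem_omegaIn_iff hS hr3 le_rfl hZ4) (by rw [card_omegaIn, hZ4])
        (v := ⟨v, omegaCentre_le hv⟩) hv
        (fun e => hvm (by
          rw [show v = ((⟨v, omegaCentre_le hv⟩ : S) : Ω) from rfl, autFun_coe, e]))
        (fun w hw => hrot.three hw) with ⟨-, n, hn, he⟩ | ⟨ψ, -, hU, -⟩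
    · exact Or.inr (Or.inr (Or.inr (Or.inl ⟨n, hn, he⟩)))
    · exact Or.inr (Or.inr (Or.inr (Or.inr ⟨ψ, hU⟩)))
  · have hne : P ≠ S := fun h => by
      subst h
      exact hZ4 (card_omega_eq hS hr3 le_rfl hz hm)
    rcases at_essential hS hF hr3 (hP.resolve_left hne) hne hz hα hm with h | h | h
    · exact Or.inl h
    · exact Or.inr (Or.inl h)
    · exact Or.inr (Or.inr (Or.inl h))

end Cfsg.Agent.Block.CentreFreeTwo
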