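import Mathlib
import Cfsg.Agent.Lib.Invol.SixtyFourThree
import Cfsg.Agent.Lib.Recog.SU3Sylow

/-!
# The nonabelian type is that of a Sylow 2-subgroup of `PSU(3, 4)`
-/

set_option autoImplicit false

namespace Cfsg.Agent.Block.CentreFreeTwo

open Cfsg.Agent.Invol

theorem equiv_sylow {T : Type*} [Group T] [Finite T] {ψ : MulAut T} (hU : SixtyFour.Unitary ψ)
    {K : Type*} [Field K] [Fintype K] (hK : Fintype.card K = 16) (P : Sylow 2 (Cfsg.PSU 3 K 4)) :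
    Nonempty (T ≃* ↥(P : Subgroup (Cfsg.PSU 3 K 4))) := by
  haveI : Fact (Fintype.card K = 4 ^ 2) := ⟨by rw [hK]; norm_num⟩
  haveI : CharP K 2 := Cfsg.Agent.Recog.SU3Two.charP_two (m := 4) (by rw [hK]; norm_num)
  obtain ⟨P₁⟩ := SixtyFour.exists_pres hU
  obtain ⟨ψ', hψ'⟩ := SixtyFour.unitary_model (F := K)
  haveI : Finite (Cfsg.Agent.Recog.SU3Two.UT K 4) :=
    Nat.finite_of_card_ne_zero (by rw [Cfsg.Agent.Recog.SU3Two.UT.card]; norm_num)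
  obtain ⟨P₂⟩ := SixtyFour.exists_pres hψ'
  obtain ⟨e⟩ := P₁.nonempty_mulEquiv P₂
  obtain ⟨e'⟩ := Cfsg.Agent.Recog.SU3Two.sylow_psu (n := 2) (q := 4) rfl (by norm_num) P
  exact ⟨e.trans e'⟩

end Cfsg.Agent.Block.CentreFreeTwo
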