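import Mathlib
import Cfsg.Agent.Lib.Fus.PSLTwo
import Cfsg.Agent.Lib.Classical.SLGroup
import Cfsg.Agent.Lib.Classical.SLNormal
import Cfsg.Agent.Lib.Invol.RealizeModelSD
import Cfsg.Agent.Lib.Invol.RealizeModelWR

/-!
Dihedral, quasi-dihedral and wreathed groups as Sylow 2-subgroups of `PSL(2,q)` and `PSL(3,q)`.
-/

set_option autoImplicit false

namespace Cfsg.Agent.Block.CentreFreeTwo

open Cfsg.Agent.Invol Cfsg.Agent.Invol.TwoModel Cfsg.Agent.Fus.NonSuper

/-- The determinant-one matrices, in the projective group. -/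
noncomputable def toPSL3 (F : Type) [Field F] :
    LinThree.SL3 F →* Matrix.ProjectiveSpecialLinearGroup (Fin 3) F :=
  (Classical.slToPSL 3 F).comp (MonoidHom.mk' (fun g =>
    (⟨((g : GL (Fin 3) F) : Matrix (Fin 3) (Fin 3) F),
      congrArg Units.val (MonoidHom.mem_ker.1 g.2)⟩ : Matrix.SpecialLinearGroup (Fin 3) F))
    fun _ _ => rfl)

theorem toPSL3_surjective (F : Type) [Field F] : Function.Surjective (toPSL3 F) := by
  intro x
  obtain ⟨A, rfl⟩ := Classical.slToPSL_surjective x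
  exact ⟨⟨Matrix.SpecialLinearGroup.toGL A, MonoidHom.mem_ker.2 (Units.ext A.2)⟩, rfl⟩

/-- The kernel has odd order. -/
theorem odd_card_ker_toPSL3 (F : Type) [Field F] [Finite F] :
    ¬ 2 ∣ Nat.card (toPSL3 F).ker := by
  intro hd
  obtain ⟨⟨g, hg⟩, h2⟩ := exists_prime_orderOf_dvd_card' (G := (toPSL3 F).ker) 2 (hp := ⟨Nat.prime_two⟩) hd
  rw [← Subgroup.orderOf_coe] at h2
  obtain ⟨c, hc⟩ := (Classical.slToPSL_eq_one_iff _).1 (MonoidHom.mem_ker.1 hg)
  have hdet : ((g : GL (Fin 3) F) : Matrix (Fin 3) (Fin 3) F).det = 1 :=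
    congrArg Units.val (MonoidHom.mem_ker.1 g.2)
  have hc' : ((g : GL (Fin 3) F) : Matrix (Fin 3) (Fin 3) F) = Matrix.scalar (Fin 3) c := hc
  have h3 : g ^ 3 = 1 := by
    refine Subtype.ext (Units.ext ?_)
    rw [SubmonoidClass.coe_pow, Units.val_pow_eq_pow_val, hc', ← map_pow]
    rw [hc', Matrix.scalar_apply, Matrix.det_diagonal] at hdet
    rw [show c ^ 3 = 1 by simpa using hdet, map_one]
    rfl
  have := orderOf_dvd_of_pow_eq_one h3
  have h2' : orderOf g = 2 := h2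
  rw [h2'] at this
  norm_num at this

/-- A 2-group embedded with odd index stays so in a quotient by a group of odd order. -/
theorem push_two {S H P : Type*} [Group S] [Group H] [Group P] [Finite H] (hS : IsPGroup 2 S)
    (π : H →* P) (hπ : Function.Surjective π) (hodd : ¬ 2 ∣ Nat.card π.ker) (ι : S →* H)
    (hι : Function.Injective ι) (hidx : ¬ 2 ∣ ι.range.index) :
    Function.Injective (π.comp ι) ∧ ¬ 2 ∣ (π.comp ι).range.index := by
  refine ⟨(injective_iff_map_eq_one _).2 fun s hs => ?_, fun hd => hidx (hd.trans ?_)⟩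
  · obtain ⟨j, hj⟩ := IsPGroup.iff_orderOf.1 hS s
    have h1 : orderOf (ι s) ∣ Nat.card π.ker := Subgroup.orderOf_dvd_natCard _ (MonoidHom.mem_ker.2 hs)
    rw [orderOf_injective ι hι, hj] at h1
    rcases j with _ | j
    · rwa [pow_zero, orderOf_eq_one_iff] at hj
    · exact absurd ((dvd_pow_self 2 (Nat.succ_ne_zero j)).trans h1) hodd
  · rw [MonoidHom.range_comp]
    exact Subgroup.index_map_dvd _ hπ

theorem pGroup_of_card {S : Type*} [Group S] {m : ℕ} (h : Nat.card S = 2 ^ m) : IsPGroup 2 S :=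
  IsPGroup.of_card h

theorem odd_factor {q r : ℕ} (hq : q % 2 = 1) (hr : ¬ 2 ∣ r) :
    ¬ 2 ∣ r * (q ^ 2 * (q ^ 2 + q + 1)) := by
  rw [Nat.prime_two.dvd_mul, Nat.prime_two.dvd_mul, not_or, not_or]
  have hodd : Odd q := Nat.odd_iff.2 hq
  refine ⟨hr, fun hd => by have := Nat.odd_iff.1 (hodd.pow (n := 2)); omega, fun hd => ?_⟩
  have he : Even (q ^ 2 + q) := by
    rw [show q ^ 2 + q = q * (q + 1) by ring]; exact Nat.even_mul_succ_self q
  obtain ⟨t, ht⟩ := he
  omega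

/-- An embedding in `GL(2,q)` with odd index gives one in `PSL(3,q)`. -/
theorem linear_three {S : Type*} [Group S] {m q : ℕ} [Fact q.Prime] (hq : q % 2 = 1)
    (hc : Nat.card S = 2 ^ m) (φ : S →* GL (Fin 2) (ZMod q)) (hφ : Function.Injective φ)
    (hr : ∃ r, ¬ 2 ∣ r ∧ Nat.card (GL (Fin 2) (ZMod q)) = 2 ^ m * r) :
    Function.Injective ((toPSL3 (ZMod q)).comp ((LinThree.emb (F := ZMod q)).comp φ)) ∧
      ¬ 2 ∣ ((toPSL3 (ZMod q)).comp ((LinThree.emb (F := ZMod q)).comp φ)).range.index := by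
  haveI : NeZero q := ⟨(Fact.out : q.Prime).ne_zero⟩
  obtain ⟨r, hr, hcard⟩ := hr
  have hι : Function.Injective ((LinThree.emb (F := ZMod q)).comp φ) :=
    LinThree.emb_injective.comp hφ
  refine push_two (pGroup_of_card hc) _ (toPSL3_surjective _) (odd_card_ker_toPSL3 _) _ hι ?_
  refine odd_index_range _ hι hc (odd_factor hq hr) ?_
  rw [LinThree.card_SL3, hcard, ZMod.card]
  ring

universe u

/-- A quasi-dihedral group inside `PSL(3,q)`. -/
theorem qd_psl3 {S : Type u} [Group S] [Finite S] {n : ℕ} {x y : S} (h : QD S n x y) :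
    ∃ (q : ℕ) (_ : Fact q.Prime) (κ : S →* Matrix.ProjectiveSpecialLinearGroup (Fin 3) (ZMod q)),
      q % 2 = 1 ∧ Function.Injective κ ∧ ¬ 2 ∣ κ.range.index := by
  obtain ⟨q, hqf, X, Y, h4, hX, hYY, hconj, hY, -, -, -, hcard, -⟩ := exists_matrices n h.hn
  haveI := hqf
  obtain ⟨φ, hφ, -, -⟩ := TwoFrame.qd_hom h hX hYY hconj hY
  have hq : q % 2 = 1 := by omega
  obtain ⟨h1, h2⟩ := linear_three hq h.card φ hφ hcard
  exact ⟨q, hqf, _, hq, h1, h2⟩

/-- A wreathed group inside `PSL(3,q)`, with an element of order three on the base. -/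
theorem wr_psl3 {S : Type u} [Group S] {n : ℕ} {x y z : S} (h : WR S n x y z) :
    ∃ (q : ℕ) (_ : Fact q.Prime) (κ : S →* Matrix.ProjectiveSpecialLinearGroup (Fin 3) (ZMod q)),
      q % 2 = 1 ∧ Function.Injective κ ∧ ¬ 2 ∣ κ.range.index ∧
      ∃ g, ∀ i j : ℤ, g * κ (h.el i j) * g⁻¹ = κ (h.el (-i - j) i) := by
  obtain ⟨q, hqf, φ, e, hq2, hφ, hcard, hel, -, -⟩ := h.exists_linear
  haveI := hqf
  haveI : NeZero q := ⟨hqf.out.ne_zero⟩
  obtain ⟨h1, h2⟩ := linear_three hq2 h.card φ hφ hcard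
  let F := ZMod q
  let M : Matrix (Fin 3) (Fin 3) F := !![0, 0, 1; 1, 0, 0; 0, 1, 0]
  have hM : M.det = 1 := by simp [M, Matrix.det_fin_three]
  let g : LinThree.SL3 F := ⟨Matrix.GeneralLinearGroup.mkOfDetNeZero M (by rw [hM]; exact one_ne_zero),
    MonoidHom.mem_ker.2 (Units.ext hM)⟩
  have hg : ∀ i j : ℤ, g * LinThree.emb (φ (h.el i j)) * g⁻¹ = LinThree.emb (φ (h.el (-i - j) i)) := by
    intro i j
    rw [mul_inv_eq_iff_eq_mul]
    refine Subtype.ext (Units.ext ?_)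
    show M * LinThree.emat (φ (h.el i j)) = LinThree.emat (φ (h.el (-i - j) i)) * M
    unfold LinThree.emat
    rw [hel, hel, sub_eq_add_neg, zpow_add, zpow_neg, zpow_neg, Matrix.det_fin_two_of,
      Matrix.det_fin_two_of]
    have hi := (e ^ i).ne_zero
    have hj := (e ^ j).ne_zero
    ext a b
    fin_cases a <;> fin_cases b <;> simp [M, Matrix.mul_apply, Fin.sum_univ_three] <;> field_simp
  refine ⟨q, hqf, _, hq2, h1, h2, toPSL3 F g, fun i j => ?_⟩
  simp only [MonoidHom.comp_apply]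
  rw [← map_inv, ← map_mul, ← map_mul]
  exact congrArg (toPSL3 F) (hg i j)

/-- A dihedral group of order at least eight inside `PSL(2,q)`, `q ≡ 1 (mod 8)`. -/
theorem dihedral_psl2 {k : ℕ} (hk : 2 ≤ k) :
    ∃ (q : ℕ) (_ : Fact q.Prime)
      (κ : DihedralGroup (2 ^ k) →* Matrix.ProjectiveSpecialLinearGroup (Fin 2) (ZMod q)),
      q % 8 = 1 ∧ Function.Injective κ ∧ ¬ 2 ∣ κ.range.index := by
  haveI : Fact (Nat.Prime 2) := ⟨Nat.prime_two⟩
  obtain ⟨q, hq3, hq, hqmod⟩ := Nat.forall_exists_prime_gt_and_modEq 3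
    (q := 2 ^ (k + 2)) (a := 2 ^ (k + 1) + 1) (pow_pos two_pos _).ne' (by
      refine Nat.Coprime.pow_right _ ?_
      rw [Nat.coprime_two_right, Nat.odd_iff, pow_succ]
      omega)
  haveI : Fact q.Prime := ⟨hq⟩
  haveI : NeZero q := ⟨hq.ne_zero⟩
  obtain ⟨w, hw⟩ : ∃ w, 2 ^ k = 4 * w := ⟨2 ^ (k - 2), by
    rw [show (4 : ℕ) = 2 ^ 2 by norm_num, ← pow_add, Nat.add_sub_cancel' hk]⟩
  have hw0 : 0 < w := by
    have := pow_pos (two_pos (α := ℕ)) k
    omega
  have e1 : 2 ^ (k + 1) = 8 * w := by rw [pow_succ, hw]; ring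
  have e2 : 2 ^ (k + 2) = 16 * w := by rw [pow_succ, e1]; ring
  rw [Nat.ModEq, e1, e2, Nat.mod_eq_of_lt (show 8 * w + 1 < 16 * w by omega)] at hqmod
  obtain ⟨s, hs⟩ : ∃ s, q = 8 * w * (2 * s + 1) + 1 := ⟨q / (16 * w), by
    have := Nat.div_add_mod q (16 * w)
    rw [hqmod] at this
    linarith⟩
  have hq8 : q % 8 = 1 := by
    rw [hs, mul_assoc]
    omega
  have hodd : Fintype.card (ZMod q) % 2 = 1 := by rw [ZMod.card]; omega
  obtain ⟨T⟩ : Nonempty (Sylow 2 (Matrix.ProjectiveSpecialLinearGroup (Fin 2) (ZMod q))) :=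
    inferInstance
  obtain ⟨k', ⟨e⟩, -⟩ := Fus.PSLTwo.exists_sylow_dihedral hodd T
  -- the order of the group
  have hc := Classical.natCard_PSL_mul (F := ZMod q) 2 (by norm_num)
  rw [Classical.natCard_units_field, ZMod.card, Fus.PSLTwo.natCard_SL_two, ZMod.card,
    show Nat.gcd 2 (q - 1) = 2 from Nat.gcd_eq_left (by omega)] at hc
  have hcard : Nat.card (Matrix.ProjectiveSpecialLinearGroup (Fin 2) (ZMod q)) =
      2 ^ (k + 1) * (q * ((2 * s + 1) * (4 * w * (2 * s + 1) + 1))) := by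
    refine Nat.eq_of_mul_eq_mul_left two_pos (hc.trans ?_)
    rw [e1, show q - 1 = 8 * w * (2 * s + 1) by omega]
    conv_lhs => rw [show q + 1 = 2 * (4 * w * (2 * s + 1) + 1) by rw [hs]; ring]
    ring
  have hodd' : ¬ 2 ∣ q * ((2 * s + 1) * (4 * w * (2 * s + 1) + 1)) := by
    rw [Nat.prime_two.dvd_mul, Nat.prime_two.dvd_mul, not_or, not_or]
    refine ⟨by omega, by omega, ?_⟩
    rw [mul_assoc]
    omega
  have hk' : k' = k := by
    have hT := Nat.card_congr e.toEquiv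
    rw [DihedralGroup.nat_card, ← pow_succ'] at hT
    have h1 := (T : Subgroup (Matrix.ProjectiveSpecialLinearGroup (Fin 2) (ZMod q))).card_mul_index
    rw [hT, hcard] at h1
    have d1 : 2 ^ (k + 1) ∣ 2 ^ (k' + 1) := by
      refine (Nat.Coprime.dvd_mul_right ?_).1 ⟨_, h1⟩
      exact Nat.Coprime.pow_left _ (Nat.prime_two.coprime_iff_not_dvd.2 T.not_dvd_index)
    have d2 : 2 ^ (k' + 1) ∣ 2 ^ (k + 1) := by
      refine (Nat.Coprime.dvd_mul_right ?_).1 ⟨_, h1.symm⟩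
      exact Nat.Coprime.pow_left _ (Nat.prime_two.coprime_iff_not_dvd.2 hodd')
    have := Nat.pow_right_injective le_rfl (Nat.dvd_antisymm d1 d2)
    omega
  subst hk'
  refine ⟨q, inferInstance, (T : Subgroup (Matrix.ProjectiveSpecialLinearGroup (Fin 2) (ZMod q))).subtype.comp e.symm.toMonoidHom, hq8,
    (T : Subgroup (Matrix.ProjectiveSpecialLinearGroup (Fin 2) (ZMod q))).subtype_injective.comp e.symm.injective, ?_⟩
  rw [MonoidHom.range_comp, MonoidHom.range_eq_top.2 e.symm.surjective, ← MonoidHom.range_eq_map,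
    Subgroup.range_subtype]
  exact T.not_dvd_index

end Cfsg.Agent.Block.CentreFreeTwo
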