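import Mathlib
import Cfsg.Agent.S0111
import Cfsg.Agent.Lib.Invol.QuasiDihedralKernel
import Cfsg.Agent.Lib.Invol.WreathedCases
import Cfsg.Agent.Lib.Invol.QDWCentralizer
import Cfsg.Agent.Lib.Invol.RealizeWreathedQuat

/-!
In a finite simple group with dihedral, quasi-dihedral or wreathed Sylow 2-subgroup the two fusion
tests of the frame hold.
-/

set_option autoImplicit false

namespace Cfsg.Agent.Block.CentreFreeTwo

open Cfsg.Agent.Invol

variable {G : Type*} [Group G] [Finite G] [IsSimpleGroup G] {T : Type*} [Group T]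

/-- A simple group has no normal subgroup of index `2 ^ j`, `0 < j`, less than its 2-part. -/
theorem no_normal_index (S : Sylow 2 G) {K : Subgroup G} (hK : K.Normal) {j : ℕ} (hj : 0 < j)
    (hKi : K.index = 2 ^ j) (hlt : 2 ^ j < Nat.card (S : Subgroup G)) : False := by
  rcases hK.eq_bot_or_eq_top with h | h
  · rw [h, Subgroup.index_bot] at hKi
    exact absurd (hKi ▸ Subgroup.card_le_card_group (S : Subgroup G)) (Nat.not_le.2 hlt)
  · rw [h, Subgroup.index_top] at hKi
    exact absurd hKi.symm (Nat.one_lt_two_pow hj.ne').ne'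

/-- Dihedral Sylow 2-subgroup: every reflection is conjugate to the central rotation. -/
theorem dihedral_tests (S : Sylow 2 G) {k : ℕ} (hk : 2 ≤ k)
    (e : ↥(S : Subgroup G) ≃* DihedralGroup (2 ^ k)) (i : ZMod (2 ^ k)) :
    IsConj ((e.symm ((DihedralGroup.r 1 : DihedralGroup (2 ^ k)) ^ 2 ^ (k - 1)) : ↥(S : Subgroup G)) : G)
      ((e.symm (DihedralGroup.sr i) : ↥(S : Subgroup G)) : G) := by
  haveI : Fact (Nat.Prime 2) := ⟨Nat.prime_two⟩
  haveI : NeZero (2 ^ k) := ⟨(pow_pos two_pos k).ne'⟩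
  set f : DihedralGroup (2 ^ k) →* G := (S : Subgroup G).subtype.comp e.symm.toMonoidHom with hf
  have hfinj : Function.Injective f := (S : Subgroup G).subtype_injective.comp e.symm.injective
  have hfr : f.range = (S : Subgroup G) := by
    rw [hf, MonoidHom.range_comp, MonoidHom.range_eq_top.2 e.symm.surjective, ← MonoidHom.range_eq_map,
      Subgroup.range_subtype]
  set C := Subgroup.zpowers (DihedralGroup.r 1 : DihedralGroup (2 ^ k))
  have hCi : (C.map f).relIndex (S : Subgroup G) = 2 := by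
    rw [← hfr, MonoidHom.range_eq_map, Subgroup.relIndex_map_map_of_injective C ⊤ hfinj,
      Subgroup.relIndex_top_right]
    have h2 := C.card_mul_index
    rw [Nat.card_zpowers, DihedralGroup.orderOf_r_one, DihedralGroup.nat_card, mul_comm 2 (2 ^ k)] at h2
    exact Nat.eq_of_mul_eq_mul_left (pow_pos two_pos k) h2
  have hord : orderOf (f (DihedralGroup.sr i)) = 2 := by
    rw [orderOf_injective f hfinj, DihedralGroup.orderOf_sr]
  rcases Cfsg.Agent.S0111.result S (C.map f)
      (by rw [← hfr]; exact Subgroup.map_le_range f C) hCi _ hord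
      (by rw [← hfr]; exact ⟨_, rfl⟩) (fun hmem => by
        obtain ⟨d, hd, hde⟩ := hmem
        obtain ⟨j, rfl⟩ := Subgroup.mem_zpowers_iff.1 hd
        have := hfinj hde
        rw [DihedralGroup.r_one_zpow] at this
        simp at this) with ⟨M, hM, hMi, -⟩ | ⟨g, hg⟩
  · refine (no_normal_index S hM one_pos (by simpa using hMi) ?_).elim
    rw [Nat.card_congr e.toEquiv, DihedralGroup.nat_card]
    have : 1 < 2 ^ k := Nat.one_lt_two_pow (by omega)
    omega
  · obtain ⟨d, hd, hde⟩ := hg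
    obtain ⟨j, rfl⟩ := Subgroup.mem_zpowers_iff.1 hd
    have hd2 : orderOf ((DihedralGroup.r 1 : DihedralGroup (2 ^ k)) ^ j) = 2 := by
      rw [← orderOf_injective f hfinj, hde]
      exact ((MulAut.conj g).orderOf_eq _).trans hord
    -- the only involution among the rotations
    have hz : (DihedralGroup.r 1 : DihedralGroup (2 ^ k)) ^ j = DihedralGroup.r 1 ^ 2 ^ (k - 1) := by
      obtain ⟨h1, hne⟩ := (orderOf_eq_iff two_pos).1 hd2
      have hne' := hne 1 one_lt_two one_pos
      rw [pow_one, Ne, ← orderOf_dvd_iff_zpow_eq_one, DihedralGroup.orderOf_r_one] at hne'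
      rw [← zpow_natCast, ← zpow_mul, ← orderOf_dvd_iff_zpow_eq_one, DihedralGroup.orderOf_r_one,
        show ((2 : ℕ) : ℤ) = 2 from rfl] at h1
      rw [← zpow_natCast (n := 2 ^ (k - 1)), ← orderOf_dvd_sub_iff_zpow_eq_zpow,
        DihedralGroup.orderOf_r_one]
      push_cast at h1 hne' ⊢
      have h2k : (2 : ℤ) ^ k = 2 ^ (k - 1) * 2 := by rw [← pow_succ, Nat.sub_add_cancel (by omega : 1 ≤ k)]
      rw [h2k] at h1 hne' ⊢
      obtain ⟨c, hc⟩ := Int.dvd_of_mul_dvd_mul_right two_ne_zero h1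
      rcases Int.even_or_odd c with ⟨d, rfl⟩ | ⟨d, rfl⟩
      · exact absurd ⟨d, by rw [hc]; ring⟩ hne'
      · exact ⟨d, by rw [hc]; ring⟩
    refine (isConj_iff.2 ⟨g⁻¹, ?_⟩)
    show g⁻¹ * f (DihedralGroup.r 1 ^ 2 ^ (k - 1)) * g⁻¹⁻¹ = f (DihedralGroup.sr i)
    rw [← hz, hde]
    group

/-- Quasi-dihedral Sylow 2-subgroup: both tests hold. -/
theorem qd_tests (S : Sylow 2 G) (e : T ≃* ↥(S : Subgroup G)) {n : ℕ} {x y : T} (h : QD T n x y) :
    IsConj ((e (x ^ (2 * qq n)) : ↥(S : Subgroup G)) : G) ((e y : ↥(S : Subgroup G)) : G) ∧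
      IsConj ((e (x ^ qq n) : ↥(S : Subgroup G)) : G) ((e (x ^ (1 : ℤ) * y) : ↥(S : Subgroup G)) : G) := by
  have h' := h.map e
  have hn := h.hn
  have hlt : 2 ^ 1 < Nat.card (S : Subgroup G) := by
    rw [h'.card]
    exact Nat.pow_lt_pow_right one_lt_two (by omega)
  have hT : QD.FusT n (e x) (e y) := by
    by_contra hno
    obtain ⟨K, hK, hK2, -⟩ := QD.exists_kernel (h'.coatom 1) (h'.index_coatom 1)
      (fun s t => h'.respects_coatom_one hno)
    exact no_normal_index S hK one_pos (by simpa using hK2) hlt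
  have hQ : QD.FusQ n (e x) (e y) := by
    by_contra hno
    obtain ⟨K, hK, hK2, -⟩ := QD.exists_kernel (h'.coatom 0) (h'.index_coatom 0)
      (fun s t => h'.respects_coatom_zero hno)
    exact no_normal_index S hK one_pos (by simpa using hK2) hlt
  constructor
  · rw [map_zpow]
    exact hT.symm
  · rw [map_mul, zpow_one, map_zpow]
    exact hQ.symm

/-- Wreathed Sylow 2-subgroup: both tests hold. -/
theorem wr_tests (S : Sylow 2 G) (e : T ≃* ↥(S : Subgroup G)) {n : ℕ} {x y z : T} (h : WR T n x y z) :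
    IsConj ((e (h.el (hh n) (hh n)) : ↥(S : Subgroup G)) : G)
        ((e (h.el (hh n) 0) : ↥(S : Subgroup G)) : G) ∧
      IsConj ((e h.qu : ↥(S : Subgroup G)) : G) ((e h.qv : ↥(S : Subgroup G)) : G) := by
  have h' := h.map e
  have hn := h.hn
  have he : (2 : ℤ) ∣ 0 := dvd_zero 2
  have hlt : ∀ j, j ≤ n → 2 ^ j < Nat.card (S : Subgroup G) := fun j hj => by
    rw [h'.card]
    exact Nat.pow_lt_pow_right one_lt_two (by omega)
  have hbase := h'.automizer_base.1.resolve_left fun h2 => by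
    obtain ⟨K, hK, hKi, -, -⟩ := h'.exists_kernel_quat he h2
    exact no_normal_index S hK (show 0 < n by omega) hKi (hlt n le_rfl)
  have hslope := (h'.automizer_slope he).1.resolve_left fun h2 => by
    obtain ⟨K, hK, hKi, -⟩ := h'.exists_kernel_base he h2
    exact no_normal_index S hK one_pos (by simpa using hKi) (hlt 1 (by omega))
  constructor
  · obtain ⟨g, -, hg⟩ := h'.automizer_base.2.1 hbase
    rw [← h.map_el e, ← h.map_el e]
    exact (isConj_iff.2 ⟨g, hg⟩).symm
  · obtain ⟨-, c, i, j, hc, hd, hconj⟩ := (h'.automizer_slope he).2.1 hslope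
    have hcc : c = WR.cc n := by
      have := h'.hh_eq_cc
      omega
    subst hcc
    have h1 := h'.isConj_outside (k := hh n) (l := 0) (by rwa [add_zero] : 2 * hh n ∣ i + j - (hh n + 0))
    rw [WR.qu, WR.qv, map_mul, ← h.map_el e, ← h.map_el e]
    exact hconj.trans h1

end Cfsg.Agent.Block.CentreFreeTwo
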