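import Mathlib
import Cfsg.Agent.Lib.Block.CentreFreeTwo.Tests
import Cfsg.Agent.Lib.Block.CentreFreeTwo.PSLModels
import Cfsg.Agent.Lib.Block.CentreFreeTwo.Main
import Cfsg.Agent.Lib.Invol.RealizeDihQuat
import Cfsg.Agent.Lib.Invol.RealizeWreathed
import Cfsg.Agent.Lib.Fus.AbelianSystem
import Cfsg.Agent.Lib.Fus.Model
import Cfsg.Agent.Lib.Fus.HyperfocalApp
import Cfsg.Agent.Lib.Fus.RealizedNormal
import Cfsg.Agent.S5337
import Cfsg.Agent.S5343
import Cfsg.Agent.S5248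

/-!
Simple fusion systems over 2-groups of rank two are those of `PSL(2,q)` and `PSL(3,q)`.
-/

set_option autoImplicit false
set_option linter.unusedSectionVars false

universe u

namespace Cfsg.Agent.Block.CentreFreeTwo

open Cfsg.Agent.Fus Cfsg.Agent.Invol Cfsg.Agent.Invol.TwoFrame

variable {Ω : Type u} [Group Ω] {S : Subgroup Ω} [Finite S] {F : FusionSystem S}

theorem card_ne_two (hr : Cfsg.PRankAtLeast 2 2 ↥S) : Nat.card S ≠ 2 := by
  obtain ⟨A, -, -, hA⟩ := hr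
  have := Subgroup.card_le_card_group A
  omega

theorem not_comm (hS : IsPGroup 2 S) (hF : F.IsSaturated 2) (hsimple : F.IsSimple 2)
    (h2 : Nat.card S ≠ 2) : ¬ ∀ x ∈ S, ∀ y ∈ S, x * y = y * x := fun hab => by
  haveI : Fact (Nat.Prime 2) := ⟨Nat.prime_two⟩
  exact h2 ((Cfsg.Agent.S5337.result 2 hS F hF hab).1 hsimple).1

/-- A simple system over a group of order other than two has trivial centre. -/
theorem center_eq_bot (hS : IsPGroup 2 S) (hF : F.IsSaturated 2) (hsimple : F.IsSimple 2)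
    (h2 : Nat.card S ≠ 2) : F.center = ⊥ := by
  classical
  haveI : Fact (Nat.Prime 2) := ⟨Nat.prime_two⟩
  set Z := F.center
  have hZS : Z ≤ S := (isCentral_center F).1
  haveI := finite_of_le hZS
  have hfix : ∀ (P : Subgroup Ω) (f : Ω → Ω), IsMap (innerFusionSystem Z) P f → ∀ x ∈ P, f x = x := by
    intro P f hf x hx
    obtain ⟨hP, g, hg, h⟩ := isMap_inner.1 hf
    rw [h x hx, center_comm F (hP hx) (hZS hg), mul_inv_cancel_right]
  have hsc : F.StronglyClosed Z := ⟨hZS, fun R hR φ hφ x => by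
    have h := (isMap_toFun hφ).fix_center x.2 (hR x.2)
    rw [toFun_coe] at h
    rw [h]
    exact hR x.2⟩
  have hnorm : (innerFusionSystem Z).IsNormalIn F 2 := by
    refine ⟨⟨isSaturated_inner (hS.to_le hZS), hF, inner_isSubsystemOf hZS F, hsc, ?_, ?_⟩, ?_⟩
    · intro P hPT φ hφ α hα
      refine ⟨Subgroup.subtype _, subtype_mem _ ?_, fun x hφx hαx => ?_⟩
      · rintro _ ⟨y, -, rfl⟩
        exact SetLike.coe_mem _
      · have := hfix P _ (isMap_toFun hφ) x x.2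
        rw [toFun_coe] at this
        show ((α ⟨x, hPT x.2⟩ : Z) : Ω) = _
        exact congrArg (fun t : Z => ((α t : Z) : Ω)) (Subtype.ext this.symm)
    · intro P hPT φ hφ
      refine ⟨1, one_mem _, P.subtype, subtype_mem _ hPT, fun x hx => ?_⟩
      have h := (isMap_toFun hφ).fix_center x.2 (hPT x.2)
      rw [toFun_coe] at h
      exact h
    · intro α hα
      have hα1 : α = 1 := mulAut_ext fun x hx => by
        rw [hfix Z _ ((mem_autGroup le_rfl).1 hα) x hx, autFun_one hx]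
      refine ⟨1, one_mem _, fun x => by rw [hα1]; rfl, fun c hc => ?_⟩
      simp
  rcases hsimple.2.2 _ _ hnorm with h | ⟨h, -⟩
  · exact h
  · exact absurd (fun x hx y hy => center_comm F (show y ∈ Z by rw [h]; exact hy) hx)
      (not_comm hS hF hsimple h2)

/-- The type of a Sylow 2-subgroup of `PSU(3,4)` does not occur. -/
theorem not_unitary (hS : IsPGroup 2 S) (hF : F.IsSaturated 2) (hsimple : F.IsSimple 2)
    {ψ : MulAut ↥S} (hU : SixtyFour.Unitary ψ) : False := by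
  haveI : Fact (Nat.Prime 2) := ⟨Nat.prime_two⟩
  obtain ⟨W, hW⟩ : ∃ W, W = (Subgroup.center ↥S).map S.subtype := ⟨_, rfl⟩
  have hWS : W ≤ S := hW ▸ Subgroup.map_subtype_le _
  have hWc : F.StronglyClosed W := by
    refine ⟨hWS, fun R hR φ hφ x => ?_⟩
    obtain ⟨y, hy, hye⟩ : (x : Ω) ∈ (Subgroup.center ↥S).map S.subtype := hW ▸ hR x.2
    have hx2 : x * x = 1 := by
      apply Subtype.ext
      show (x : Ω) * x = 1
      rw [← hye, ← map_mul, hU.rot.sq y hy, map_one]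
    have hxS := (F.le_of_mem hφ).2 x
    rw [hW]
    exact ⟨⟨φ x, hxS⟩, hU.inv _ (Subtype.ext (show φ x * φ x = 1 by rw [← map_mul, hx2, map_one])), rfl⟩
  have hn : F.IsNormal S := by
    refine isNormal_of_chain hS hF ![⊥, W, S] rfl ?_ fun i => ?_
    · exact Fin.monotone_iff_le_succ.2 fun i => by fin_cases i <;> simp [hWS]
    · fin_cases i
      · refine ⟨hWc, ?_⟩
        show ⁅S, W⁆ ≤ ⊥
        refine Subgroup.commutator_le.2 fun a ha b hb => Subgroup.mem_bot.2 ?_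
        rw [hW] at hb
        obtain ⟨y, hy, rfl⟩ := hb
        rw [commutatorElement_eq_one_iff_mul_comm]
        exact congrArg Subtype.val (Subgroup.mem_center_iff.1 hy ⟨a, ha⟩)
      · refine ⟨⟨le_rfl, fun R _ φ hφ x => (F.le_of_mem hφ).2 x⟩, ?_⟩
        show ⁅S, S⁆ ≤ W
        refine Subgroup.commutator_le.2 fun a ha b hb => ?_
        rw [hW]
        exact ⟨FpfThree.c ⟨a, ha⟩ ⟨b, hb⟩, hU.fpf.comm_center hU.pgroup _ _, rfl⟩
  obtain ⟨G, _, ι, hm, hN, -⟩ := exists_model_of_normal hS hF hn (fun g hg => hg.1)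
  obtain ⟨hfin, hr, ⟨T, hT⟩, -⟩ := hm
  haveI := hfin
  rw [Subgroup.subgroupOf_self, ← MonoidHom.range_eq_map] at hN
  -- the centre of the normal Sylow subgroup
  set N : Subgroup G := (Subgroup.center ↥S).map ι with hNdef
  haveI : N.Normal := ⟨fun a ha g => by
    obtain ⟨c, hc, rfl⟩ := ha
    obtain ⟨c', hc'⟩ : ∃ c', ι c' = g * ι c * g⁻¹ := hN.conj_mem _ ⟨c, rfl⟩ g
    refine ⟨c', Subgroup.mem_center_iff.2 fun s => hr.1 ?_, hc'⟩
    obtain ⟨s', hs'⟩ : ∃ s', ι s' = g⁻¹ * ι s * g⁻¹⁻¹ := hN.conj_mem _ ⟨s, rfl⟩ g⁻¹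
    have hcomm : ι s' * ι c = ι c * ι s' := by
      rw [← map_mul, ← map_mul, Subgroup.mem_center_iff.1 hc s']
    rw [map_mul, map_mul, hc', show ι s = g * ι s' * g⁻¹ by rw [hs']; group]
    calc g * ι s' * g⁻¹ * (g * ι c * g⁻¹) = g * (ι s' * ι c) * g⁻¹ := by group
      _ = g * (ι c * ι s') * g⁻¹ := by rw [hcomm]
      _ = g * ι c * g⁻¹ * (g * ι s' * g⁻¹) := by group⟩
  have hmem : ∀ s : ↥S, (s : Ω) ∈ pullSub ι N ↔ s ∈ Subgroup.center ↥S := fun s => by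
    rw [mem_pullSub, extFun_apply ι s.2, hNdef]
    exact ⟨fun h => (Subgroup.mem_map_iff_mem hr.1).1 h.2, fun h => ⟨s.2, Subgroup.mem_map_of_mem ι h⟩⟩
  rcases hsimple.2.2 _ _ (realSys_isNormalIn hr hT N) with h | ⟨h, -⟩
  · have h4 := hU.centre
    rw [show Subgroup.center ↥S = ⊥ from (Subgroup.eq_bot_iff_forall _).2 fun s hs => by
      have := (hmem s).2 hs
      rw [h, Subgroup.mem_bot] at this
      exact Subtype.ext this, Subgroup.card_bot] at h4
    omega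
  · have h4 := hU.centre
    rw [show Subgroup.center ↥S = ⊤ from eq_top_iff.2 fun s _ => (hmem s).1 (by rw [h]; exact s.2),
      Subgroup.card_top, hU.order] at h4
    omega

/-- A simple realizable system has a simple realizing group, with the Sylow subgroup identified. -/
theorem simple_realizing (hS : IsPGroup 2 S) (hsimple : F.IsSimple 2) (hreal : F.IsRealizable 2) :
    ∃ (G : Type u) (_ : Group G) (_ : Finite G) (_ : IsSimpleGroup G) (ι : ↥S →* G) (T : Sylow 2 G)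
      (e : ↥S ≃* ↥(T : Subgroup G)), F.IsRealizedBy ι ∧ ∀ s, ((e s : ↥(T : Subgroup G)) : G) = ι s := by
  haveI : Fact (Nat.Prime 2) := ⟨Nat.prime_two⟩
  obtain ⟨G, iG, iF, iS, ι, h, T, hT⟩ := Cfsg.Agent.S5343.result 2 hS F hsimple hreal
  exact ⟨G, iG, iF, iS, ι, T, (MonoidHom.ofInjective h.1).trans (MulEquiv.subgroupCongr hT.symm), h,
    fun _ => rfl⟩

/-- An embedding with odd index gives a Sylow subgroup and the identification. -/
theorem sylow_of_embedding (hS : IsPGroup 2 S) {P : Type*} [Group P] [Finite P] (κ : ↥S →* P)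
    (hκ : Function.Injective κ) (hidx : ¬ 2 ∣ κ.range.index) :
    ∃ (T : Sylow 2 P) (e : ↥S ≃* ↥(T : Subgroup P)), ∀ s, ((e s : ↥(T : Subgroup P)) : P) = κ s := by
  haveI : Fact (Nat.Prime 2) := ⟨Nat.prime_two⟩
  exact ⟨(hS.of_equiv (MonoidHom.ofInjective hκ)).toSylow hidx, MonoidHom.ofInjective hκ, fun _ => rfl⟩

variable [Fact (Nat.Prime 2)]

/-- Two pairs fused in both groups: the same system. -/
theorem realized_it (hS : IsPGroup 2 S) {c : ↥S} {u v : Fin 2 → ↥S} {j : Fin 2 → ℕ}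
    (hIT : IT c u v j) (hF : F.IsSaturated 2) {G : Type*} [Group G] [Finite G] {ι : ↥S →* G}
    (hr : F.IsRealizedBy ι) {P : Type*} [Group P] [Finite P] (κ : ↥S →* P)
    (hκ : Function.Injective κ) (hidx : ¬ 2 ∣ κ.range.index)
    (hG : ∀ i, IsConj (ι (u i)) (ι (v i))) (hP : ∀ i, IsConj (κ (u i)) (κ (v i))) :
    F.IsRealizedBy κ ∧ ∃ T : Sylow 2 P, (T : Subgroup P) = κ.range :=
  realized_of_model hS (geo_frameOf hIT) κ hκ hidx hF (fits_frameOf hS hIT hF)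
    (fun _ hE _ => fits_frameOf hS hIT hE) fun i => ⟨u i, v i, rfl, rfl,
      (fus_iff_conj hr (u i) (v i)).trans
        ⟨fun _ => isConj_iff.1 (hP i), fun _ => isConj_iff.1 (hG i)⟩⟩

theorem dihedral_case (hS : IsPGroup 2 S) (hF : F.IsSaturated 2) (hsimple : F.IsSimple 2)
    {k : ℕ} (hk : 2 ≤ k) (e : ↥S ≃* DihedralGroup (2 ^ k)) :
    ∃ (q : ℕ) (_ : Fact q.Prime) (κ : ↥S →* Matrix.ProjectiveSpecialLinearGroup (Fin 2) (ZMod q)),
      q % 8 = 1 ∧ F.IsRealizedBy κ ∧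
      ∃ T : Sylow 2 (Matrix.ProjectiveSpecialLinearGroup (Fin 2) (ZMod q)),
        (T : Subgroup (Matrix.ProjectiveSpecialLinearGroup (Fin 2) (ZMod q))) = κ.range := by
  have hm : 4 ≤ 2 ^ k := le_trans (by norm_num) (Nat.pow_le_pow_right two_pos hk)
  obtain ⟨G, _, _, _, ι, T, eG, hr, he⟩ :=
    simple_realizing hS hsimple (Cfsg.Agent.S5248.result hS F hF (Or.inl ⟨_, hm, ⟨e⟩⟩)).2
  obtain ⟨q, hqf, κ₀, hq8, hκ₀, hidx₀⟩ := dihedral_psl2 hk
  haveI := hqf
  haveI : NeZero q := ⟨hqf.out.ne_zero⟩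
  let κ := κ₀.comp e.toMonoidHom
  have hκ : Function.Injective κ := hκ₀.comp e.injective
  have hidx : ¬ 2 ∣ κ.range.index := by
    rwa [MonoidHom.range_comp, MonoidHom.range_eq_top.2 e.surjective, ← MonoidHom.range_eq_map]
  haveI : IsSimpleGroup (Matrix.ProjectiveSpecialLinearGroup (Fin 2) (ZMod q)) :=
    Classical.PSL_isSimple le_rfl fun _ => by
      rw [ZMod.card]
      have := hqf.out.two_le
      omega
  obtain ⟨T', eP, heP⟩ := sylow_of_embedding hS κ hκ hidx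
  obtain ⟨hr', hT'⟩ := realized_it hS ((IT_dihedral hk).map e.symm) hF hr κ hκ hidx
    (fun i => by
      have h := dihedral_tests T hk (eG.symm.trans e) ((i : ℕ) : ZMod (2 ^ k))
      simpa [he] using h)
    (fun i => by
      have h := dihedral_tests T' hk (eP.symm.trans e) ((i : ℕ) : ZMod (2 ^ k))
      simpa [heP] using h)
  exact ⟨q, hqf, κ, hq8, hr', hT'⟩

theorem qd_case (hS : IsPGroup 2 S) (hF : F.IsSaturated 2) (hsimple : F.IsSimple 2)
    (hqd : Cfsg.IsQuasiDihedral ↥S) :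
    ∃ (q : ℕ) (_ : Fact q.Prime) (κ : ↥S →* Matrix.ProjectiveSpecialLinearGroup (Fin 3) (ZMod q)),
      q % 2 = 1 ∧ F.IsRealizedBy κ ∧
      ∃ T : Sylow 2 (Matrix.ProjectiveSpecialLinearGroup (Fin 3) (ZMod q)),
        (T : Subgroup (Matrix.ProjectiveSpecialLinearGroup (Fin 3) (ZMod q))) = κ.range := by
  obtain ⟨G, _, _, _, ι, T, eG, hr, he⟩ :=
    simple_realizing hS hsimple (Cfsg.Agent.S5248.result hS F hF (Or.inr (Or.inr (Or.inl hqd)))).2
  obtain ⟨n, x, y, h⟩ := exists_qd hqd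
  obtain ⟨q, hqf, κ, hq, hκ, hidx⟩ := qd_psl3 h
  haveI := hqf
  haveI : NeZero q := ⟨hqf.out.ne_zero⟩
  haveI : IsSimpleGroup (Matrix.ProjectiveSpecialLinearGroup (Fin 3) (ZMod q)) :=
    Classical.PSL_isSimple (by norm_num) fun h => absurd h (by norm_num)
  obtain ⟨T', eP, heP⟩ := sylow_of_embedding hS κ hκ hidx
  obtain ⟨g0, g1⟩ := qd_tests T eG h
  obtain ⟨p0, p1⟩ := qd_tests T' eP h
  rw [he, he] at g0 g1
  rw [heP, heP] at p0 p1
  obtain ⟨hr', hT'⟩ := realized_it hS (IT_qd h) hF hr κ hκ hidx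
    (fun i => by fin_cases i <;> assumption) (fun i => by fin_cases i <;> assumption)
  exact ⟨q, hqf, κ, hq, hr', hT'⟩

theorem wreathed_case (hS : IsPGroup 2 S) (hF : F.IsSaturated 2) (hsimple : F.IsSimple 2)
    (hw : Cfsg.IsWreathed ↥S) :
    ∃ (q : ℕ) (_ : Fact q.Prime) (κ : ↥S →* Matrix.ProjectiveSpecialLinearGroup (Fin 3) (ZMod q)),
      q % 2 = 1 ∧ F.IsRealizedBy κ ∧
      ∃ T : Sylow 2 (Matrix.ProjectiveSpecialLinearGroup (Fin 3) (ZMod q)),
        (T : Subgroup (Matrix.ProjectiveSpecialLinearGroup (Fin 3) (ZMod q))) = κ.range := by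
  obtain ⟨G, _, _, _, ι, T, eG, hr, he⟩ :=
    simple_realizing hS hsimple (Cfsg.Agent.S5248.result hS F hF (Or.inr (Or.inr (Or.inr hw)))).2
  obtain ⟨n, x, y, z, h⟩ := exists_wr hw
  obtain ⟨gF0, gF1⟩ := wr_tests T eG h
  rw [he, he] at gF0 gF1
  have hF0 : Fus' F ((h.el (hh n) (hh n) : ↥S) : Ω) ((h.el (hh n) 0 : ↥S) : Ω) :=
    (fus_iff_conj hr _ _).2 (isConj_iff.1 gF0)
  have hF1 : Fus' F (h.qu : Ω) (h.qv : Ω) := (fus_iff_conj hr _ _).2 (isConj_iff.1 gF1)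
  obtain ⟨q, hqf, ι₀, hq, hι₀, hidx₀, g, hg⟩ := wr_psl3 h
  haveI := hqf
  haveI : NeZero q := ⟨hqf.out.ne_zero⟩
  haveI : IsSimpleGroup (Matrix.ProjectiveSpecialLinearGroup (Fin 3) (ZMod q)) :=
    Classical.PSL_isSimple (by norm_num) fun h => absurd h (by norm_num)
  -- the base class is essential
  obtain ⟨Q, hQ, hQb⟩ : ∃ Q, F.IsEssential 2 Q ∧ SConj S (bS h) Q := by
    by_contra hno
    obtain ⟨α, hα⟩ := exists_move_base h
    exact not_fus_of_not_on hS (geo_wr h (T₀ := ⊤) ⟨α, Subgroup.mem_top _, hα⟩) hF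
      (fits_wr hS h hF fun hb => absurd hb hno) (i := 0) hno hF0
  obtain ⟨ω, hωA, hω, hc, hωo, ρ, hρA, hρo, hρw, a, b, hab, hsum, hv, hrr⟩ :=
    base_automizer hS h hF hQ hQb
  obtain ⟨σ, s, t, hst, hσz, hσel, hσv, hσr, hσr'⟩ := h.exists_straighten hab hsum
  let fr := wrFrame h (F.autGroup (bS h))
  have hgeo : Geo fr := geo_wr h ⟨ρ * ρ, mul_mem hρA hρA, hρw⟩
  let κ := ι₀.comp σ.toMonoidHom
  have hκ : Function.Injective κ := hι₀.comp σ.injective
  have hidx : ¬ 2 ∣ κ.range.index := by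
    rwa [MonoidHom.range_comp, MonoidHom.range_eq_top.2 σ.surjective, ← MonoidHom.range_eq_map]
  obtain ⟨T', eP, heP⟩ := sylow_of_embedding hS κ hκ hidx
  obtain ⟨p0, p1⟩ := wr_tests T' eP h
  rw [heP, heP] at p0 p1
  obtain ⟨hr', hT'⟩ := realized_of_model hS hgeo κ hκ hidx hF (fits_wr hS h hF fun _ => rfl)
    (fun E hE hEr => fits_wr hS h hE fun hb => by
      obtain ⟨Q', hQ', hQb'⟩ := hb
      exact base_aut_eq hS h hE hωA hω hc hωo hρA hρo hab hv hrr hσv hσr hσr' hg hEr hQ' hQb')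
    fun i => by
      fin_cases i
      · exact ⟨h.el (hh n) (hh n), h.el (hh n) 0, rfl, rfl, iff_of_true hF0 (isConj_iff.1 p0)⟩
      · exact ⟨h.qu, h.qv, rfl, rfl, iff_of_true hF1 (isConj_iff.1 p1)⟩
  exact ⟨q, hqf, κ, hq, hr', hT'⟩

theorem classification (hS : IsPGroup 2 S) (hF : F.IsSaturated 2)
    (hr : Cfsg.PRankAtLeast 2 2 ↥S ∧ ¬ Cfsg.PRankAtLeast 2 3 ↥S) (hsimple : F.IsSimple 2) :
    ((∃ m : ℕ, Nonempty (↥S ≃* DihedralGroup m)) ∨ Cfsg.IsQuasiDihedral ↥S ∨ Cfsg.IsWreathed ↥S) ∧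
    ∃ (K : Type) (_ : Field K) (_ : Fintype K) (q : ℕ), Fintype.card K = q ∧ Odd q ∧
      (((q % 8 = 1 ∨ q % 8 = 7) ∧ ∃ ι : ↥S →* Matrix.ProjectiveSpecialLinearGroup (Fin 2) K,
          F.IsRealizedBy ι ∧ ∃ T : Sylow 2 (Matrix.ProjectiveSpecialLinearGroup (Fin 2) K),
            (T : Subgroup (Matrix.ProjectiveSpecialLinearGroup (Fin 2) K)) = ι.range) ∨
        (∃ ι : ↥S →* Matrix.ProjectiveSpecialLinearGroup (Fin 3) K,
          F.IsRealizedBy ι ∧ ∃ T : Sylow 2 (Matrix.ProjectiveSpecialLinearGroup (Fin 3) K),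
            (T : Subgroup (Matrix.ProjectiveSpecialLinearGroup (Fin 3) K)) = ι.range)) := by
  have h2 := card_ne_two hr.1
  rcases list hS hF hr (center_eq_bot hS hF hsimple h2) with
    ⟨m, hm, ⟨e⟩⟩ | hqd | hw | ⟨n, -, ⟨e⟩⟩ | ⟨ψ, hU⟩
  · obtain ⟨j, hj⟩ := IsPGroup.iff_card.1 hS
    rw [Nat.card_congr e.toEquiv, DihedralGroup.nat_card] at hj
    obtain ⟨k, -, rfl⟩ := (Nat.dvd_prime_pow Nat.prime_two).1 (Dvd.intro_left 2 hj)
    have hk : 2 ≤ k := by
      by_contra hk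
      have hk1 : k = 1 := by
        rcases k with _ | _ | k
        · simp at hm
        · rfl
        · omega
      subst hk1
      refine not_comm hS hF hsimple h2 fun a ha b hb => congrArg Subtype.val
        (e.injective ?_ : (⟨a, ha⟩ : ↥S) * ⟨b, hb⟩ = ⟨b, hb⟩ * ⟨a, ha⟩)
      rw [map_mul, map_mul]
      exact (IsKleinFour.isMulCommutative (G := DihedralGroup 2)).is_comm.comm _ _
    obtain ⟨q, hqf, κ, hq, h1, h3⟩ := dihedral_case hS hF hsimple hk e
    haveI := hqf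
    haveI : NeZero q := ⟨hqf.out.ne_zero⟩
    exact ⟨Or.inl ⟨_, ⟨e⟩⟩, ZMod q, inferInstance, inferInstance, q, ZMod.card q,
      Nat.odd_iff.2 (by omega), Or.inl ⟨Or.inl hq, κ, h1, h3⟩⟩
  · obtain ⟨q, hqf, κ, hq, h1, h3⟩ := qd_case hS hF hsimple hqd
    haveI := hqf
    haveI : NeZero q := ⟨hqf.out.ne_zero⟩
    exact ⟨Or.inr (Or.inl hqd), ZMod q, inferInstance, inferInstance, q, ZMod.card q,
      Nat.odd_iff.2 hq, Or.inr ⟨κ, h1, h3⟩⟩
  · obtain ⟨q, hqf, κ, hq, h1, h3⟩ := wreathed_case hS hF hsimple hw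
    haveI := hqf
    haveI : NeZero q := ⟨hqf.out.ne_zero⟩
    exact ⟨Or.inr (Or.inr hw), ZMod q, inferInstance, inferInstance, q, ZMod.card q,
      Nat.odd_iff.2 hq, Or.inr ⟨κ, h1, h3⟩⟩
  · exact absurd (fun x hx y hy => congrArg Subtype.val (e.injective (by rw [map_mul, map_mul, mul_comm]) :
      (⟨x, hx⟩ : ↥S) * ⟨y, hy⟩ = ⟨y, hy⟩ * ⟨x, hx⟩)) (not_comm hS hF hsimple h2)
  · exact (not_unitary hS hF hsimple hU).elim

end Cfsg.Agent.Block.CentreFreeTwo
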